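import Cfsg.Agent.Lib.J4Type.Five.Frob

/-!
The subgroups of order five of the centraliser of the involution.
-/

set_option autoImplicit false
set_option linter.unusedSectionVars false

namespace CfsgLib.J4Type.Five

open Cfsg Subgroup

variable {G : Type*} [Group G] [Finite G] {z : G} {P : Subgroup G}

theorem five (F : Frame z P) (D : VData F) (hf : Fused D) (Q : Subgroup G) (hQ : Nat.card ↥Q = 5)
    (hQz : Q ≤ Subgroup.centralizer ({z} : Set G)) :
    ¬ (25 ∣ Nat.card G) ∧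
    (∃ J : Subgroup G, IsInternalDirectProduct Q J (Subgroup.centralizer (Q : Set G)) ∧
      ∃ (E : Subgroup ↥J) (_ : E.Normal), IsElementaryAbelian 2 E ∧ Nat.card ↥E = 8 ∧
        Nonempty (↥J ⧸ E ≃* Matrix.SpecialLinearGroup (Fin 3) (ZMod 2)) ∧
        ∀ K : Subgroup ↥J, ¬ E.IsComplement' K) ∧
    (∃ R : Subgroup G, Q ≤ R ∧ R ≤ Subgroup.normalizer (Q : Set G) ∧ Nat.card ↥R = 20 ∧
      R ⊓ Subgroup.centralizer (Q : Set G) = Q) ∧
    Nat.card ↥(Subgroup.normalizer (Q : Set G)) = 2 ^ 8 * 3 * 5 * 7 := by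
  obtain ⟨S⟩ := exists_setup F D hf
  haveI : Fact (Nat.Prime 5) := ⟨by norm_num⟩
  obtain ⟨⟨y, hy⟩, hyo⟩ := exists_prime_orderOf_dvd_card' (G := Q) 5 (by rw [hQ])
  rw [Subgroup.orderOf_mk] at hyo
  obtain ⟨c, -, hc⟩ := S.exists_conj_q (hQz hy) hyo
  set φ := MulAut.conj c
  have hQe : Q = zpowers y := (eq_of_le_of_card_ge (zpowers_le.2 hy)
    (by rw [Nat.card_zpowers, hyo, hQ])).symm
  have hmap : (zpowers S.q).map φ.toMonoidHom = Q := by
    rw [MonoidHom.map_zpowers, hQe, ← hc]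
    rfl
  have hcen : centralizer (Q : Set G) = S.X.map φ.toMonoidHom := by
    ext x
    rw [mem_map_equiv, MulAut.conj_symm_apply, S.mem_X, hQe]
    constructor
    · intro hx
      have h := (mem_centralizer_iff.1 hx) y (mem_zpowers y)
      rw [← hc] at h
      calc c⁻¹ * x * c * S.q = c⁻¹ * (x * (c * S.q * c⁻¹)) * c := by group
        _ = c⁻¹ * (c * S.q * c⁻¹ * x) * c := by rw [h]
        _ = _ := by group
    · intro hx
      refine mem_centralizer_iff.2 fun w hw => ?_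
      obtain ⟨k, rfl⟩ := mem_zpowers_iff.1 hw
      refine ((show Commute x y from ?_).zpow_right k).eq.symm
      show x * y = y * x
      rw [← hc]
      calc x * (c * S.q * c⁻¹) = c * (c⁻¹ * x * c * S.q) * c⁻¹ := by group
        _ = c * (S.q * (c⁻¹ * x * c)) * c⁻¹ := by rw [hx]
        _ = _ := by group
  have hnor : normalizer (Q : Set G) =
      (normalizer (zpowers S.q : Set G)).map φ.toMonoidHom := by
    rw [← hmap]
    exact (map_equiv_normalizer_eq _ _).symm
  have hinj : Function.Injective φ.toMonoidHom := φ.injective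
  refine ⟨S.not_dvd_25, ?_, ?_, ?_⟩
  · obtain ⟨J, ⟨h1, h2, h3, h4, h5⟩, E, hE, he1, he2, ⟨e⟩, he4⟩ := S.exists_factor
    let ψ : ↥J ≃* ↥(J.map φ.toMonoidHom) := J.equivMapOfInjective _ hinj
    have hEm : (E.map ψ.toMonoidHom).Normal := hE.map _ ψ.surjective
    refine ⟨J.map φ.toMonoidHom, ⟨?_, ?_, ?_, ?_, ?_⟩, E.map ψ.toMonoidHom,
      hEm, ?_, ?_, ?_, ?_⟩
    · rw [hcen, ← hmap]; exact map_mono h1
    · rw [hcen]; exact map_mono h2
    · rw [← hmap]
      rintro _ ⟨a, ha, rfl⟩ _ ⟨b, hb, rfl⟩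
      rw [← map_mul, ← map_mul, h3 a ha b hb]
    · rw [← hmap, ← map_inf _ _ _ hinj, h4, Subgroup.map_bot]
    · rw [hcen, ← hmap, ← Subgroup.map_sup, h5]
    · refine ⟨⟨⟨?_⟩⟩, ?_⟩
      · rintro ⟨_, a, ha, rfl⟩ ⟨_, b, hb, rfl⟩
        apply Subtype.ext
        show ψ a * ψ b = ψ b * ψ a
        rw [← map_mul, ← map_mul,
          show a * b = b * a from congrArg Subtype.val (he1.1.1.comm (⟨a, ha⟩ : E) ⟨b, hb⟩)]
      · rintro _ ⟨a, ha, rfl⟩
        rw [← map_pow, he1.2 a ha, map_one]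
    · rw [Subgroup.card_map_of_injective ψ.injective, he2]
    · exact ⟨(QuotientGroup.congr E (E.map ψ.toMonoidHom) ψ rfl).symm.trans e⟩
    · intro K hK
      refine he4 (K.comap ψ.toMonoidHom) ?_
      rw [isComplement'_iff_card_mul_and_disjoint] at hK ⊢
      refine ⟨?_, ?_⟩
      · have e1 : Nat.card (K.comap ψ.toMonoidHom) = Nat.card K := by
          conv_rhs => rw [← map_comap_eq_self_of_surjective (f := ψ.toMonoidHom) ψ.surjective K]
          rw [Subgroup.card_map_of_injective ψ.injective]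
        rw [e1, Nat.card_congr ψ.toEquiv]
        rw [Subgroup.card_map_of_injective ψ.injective] at hK
        exact hK.1
      · rw [disjoint_iff, Subgroup.eq_bot_iff_forall]
        rintro x ⟨hx1, hx2⟩
        have := hK.2.le_bot (⟨⟨x, hx1, rfl⟩, hx2⟩ : ψ x ∈ E.map ψ.toMonoidHom ⊓ K)
        exact (map_eq_one_iff _ ψ.injective).1 (mem_bot.1 this)
  · obtain ⟨R, h1, h2, h3, h4⟩ := S.exists_frob
    refine ⟨R.map φ.toMonoidHom, ?_, ?_, ?_, ?_⟩
    · rw [← hmap]; exact map_mono h1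
    · rw [hnor]; exact map_mono h2
    · rw [Subgroup.card_map_of_injective hinj, h3]
    · rw [hcen, ← map_inf _ _ _ hinj, h4, hmap]
  · rw [hnor, Subgroup.card_map_of_injective hinj, S.card_normalizer]
    norm_num

end CfsgLib.J4Type.Five
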