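import Cfsg.Agent.Lib.J4Type.Five.Line

/-!
The distinguished subgroup of order eight is the same for each of its elements conjugate to the
involution.
-/

set_option autoImplicit false
set_option linter.unusedSectionVars false
set_option maxRecDepth 100000

namespace CfsgLib.J4Type.Five

open Cfsg Subgroup Local57

variable {G : Type*} [Group G] [Finite G] {z : G} {P : Subgroup G}

namespace Setup

variable (S : Setup z P)

theorem upper_id : ∀ c < 16, mm idM (NV.upM c) = NV.upM c := by decide +kernel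

/-- The only conjugate of the involution in `V` centralising `q` is the involution itself. -/
theorem V_class {v : G} (hv : v ∈ S.D.V) (hX : v ∈ S.X) (h : IsConj z v) : v = z := by
  obtain ⟨n, hn, rfl⟩ := Frame.exists_vE S.D hv
  have hc : n / 128 < 16 := by omega
  obtain ⟨v1, v2, -⟩ := Frame.vC_spec S.D hc
  obtain ⟨p1, -, -⟩ := S.F.eE_spec (show n % 64 < 4096 by omega)
  have hr := mul_mem p1 (S.F.zp_mem (n.testBit 6))
  have hmat : S.F.mat (Frame.vE S.D n) = NV.upM (n / 128) := by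
    rw [Frame.vE, S.F.mat_mul _ (rad_le_Cen hr) _ (Frame.V0_le_CP S.D v1).1,
      (S.F.mat_eq_id _ (rad_le_Cen hr)).2 hr, v2, upper_id _ hc]
  have hcen : Frame.vE S.D n ∈ Cen z := S.D.le_cen hv
  have hcomm : mm (NV.upM (n / 128)) m5 = mm m5 (NV.upM (n / 128)) := by
    rw [← hmat, ← S.q_mat, ← S.F.mat_mul _ hcen _ S.q_mem.1, ← S.F.mat_mul _ S.q_mem.1 _ hcen,
      S.mem_X.1 hX]
  have h0 : n / 128 = 0 := by
    by_contra hne
    have := List.all_eq_true.1 upper_ok _ (List.mem_range.2 hc)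
    rw [hcomm, Three.eqM_refl, show Nat.beq (n / 128) 0 = false from
      Bool.eq_false_iff.2 fun e => hne (Nat.eq_of_beq_eq_true e)] at this
    exact Bool.noConfusion this
  have hR : Frame.vE S.D n ∈ S.R := S.mem_R_of_mat ⟨hcen, hX⟩ (by rw [hmat, h0]; decide +kernel)
  have hco : S.F.co (Frame.vE S.D n) < 64 := (S.D.rad _ hR.1).1 hv
  obtain ⟨hr', hf⟩ := S.mem_R.1 hR
  have hsmall : ∀ v ∈ fix5, v < 64 → v = 0 ∨ v ∈ lineB := by decide
  rcases hsmall _ hf hco with e | e
  · rcases (S.F.co_eq_zero _ hr').1 e with e' | e'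
    · rw [e'] at h
      obtain ⟨g, hg⟩ := isConj_iff.1 h
      exact absurd (conj_eq_one_iff.1 hg) S.F.z_ne
    · exact e'
  · exact absurd h (S.bType hr' e).1

/-- An element over the first vector is of pair type. -/
theorem pairV_of_one {b : G} (hb : b ∈ S.R) (hc : S.F.co b = 1) : b ∈ Frame.pairV S.D := by
  refine ⟨(S.D.rad _ hb.1).2 (by rw [hc]; norm_num), fun e => ?_, S.fused.not_oval _ hb.1 hc⟩
  rw [e, S.F.co_one] at hc
  omega

/-- A moving element fixing the type of one element of `R` fixes the involution. -/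
theorem btype_center {x y g : G} (hx : x ∈ S.R) (hy : y ∈ S.R) (cx : S.F.co x ∈ lineB)
    (cy : S.F.co y ∈ lineB) (hg : g ∈ S.X) (h : g * y * g⁻¹ = x) : g * z * g⁻¹ = z := by
  obtain ⟨-, l, hl, hl1, hlR⟩ := S.bType hx.1 cx
  obtain ⟨-, m, hm, hm1, hmR⟩ := S.bType hy.1 cy
  set k := l⁻¹ * g * m with hk
  have hkb : k * (m⁻¹ * y * m) * k⁻¹ = l⁻¹ * x * l := by rw [hk, ← h]; group
  have hb1 := S.pairV_of_one hlR hl1
  have hb2 := S.pairV_of_one hmR hm1
  have hle : S.D.V.map (MulAut.conj k).toMonoidHom ≤ normalizer (S.D.V : Set G) := by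
    refine le_trans ?_ (Frame.centralizer_pairV_le S.D S.fused hb1)
    rintro _ ⟨v, hv, rfl⟩
    refine mem_centralizer_singleton_iff.2 ?_
    show k * v * k⁻¹ * (l⁻¹ * x * l) = l⁻¹ * x * l * (k * v * k⁻¹)
    rw [← hkb]
    calc k * v * k⁻¹ * (k * (m⁻¹ * y * m) * k⁻¹) = k * (v * (m⁻¹ * y * m)) * k⁻¹ := by group
      _ = k * (m⁻¹ * y * m * v) * k⁻¹ := by rw [Frame.V_comm S.D hv hb2.1]
      _ = _ := by group
  have hp : IsPGroup 2 S.D.V := IsPGroup.of_card S.D.card
  have hp' : IsPGroup 2 (S.D.V.map (MulAut.conj k).toMonoidHom) := hp.map _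
  have heq := Frame.conj_unique S.D k _ (hp'.to_sup_of_normal_right' hp hle) le_sup_right le_sup_left
  have hkX : k ∈ S.X := S.X.mul_mem (S.X.mul_mem (S.X.inv_mem hl.2) hg) hm.2
  have hkz : k * z * k⁻¹ = z :=
    S.V_class (heq.le ⟨z, S.D.z_mem, rfl⟩)
      (S.X.mul_mem (S.X.mul_mem hkX S.z_mem_CX.2) (S.X.inv_mem hkX))
      (isConj_iff.2 ⟨k, rfl⟩)
  have cl : l * z = z * l := mem_centralizer_singleton_iff.1 hl.1
  have cm : m * z = z * m := mem_centralizer_singleton_iff.1 hm.1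
  calc g * z * g⁻¹ = l * (k * (m⁻¹ * (z * m)) * k⁻¹) * l⁻¹ := by rw [hk]; group
    _ = l * (k * z * k⁻¹) * l⁻¹ := by rw [← cm]; group
    _ = z := by rw [hkz, cl, mul_inv_cancel_right]

/-- Conjugation keeping `q` and moving the involution into `K` keeps `K`. -/
theorem K_mover {g : G} (hg : g ∈ S.X) (hgK : g * z * g⁻¹ ∈ S.K) :
    ∀ k ∈ S.K, g * k * g⁻¹ ∈ S.K := by
  rcases eq_or_ne (g * z * g⁻¹) z with e | hne
  · exact fun k hk => S.K_conj ⟨mem_centralizer_singleton_iff.2 (mul_inv_eq_iff_eq_mul.1 e), hg⟩ hk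
  set u := g * z * g⁻¹ with hu
  set w := g⁻¹ * z * g with hw
  have cu : u * z = z * u := S.K_comm hgK S.z_mem_K
  have hwz : w ∈ S.CX := by
    refine ⟨mem_centralizer_singleton_iff.2 ?_, ?_⟩
    · calc w * z = g⁻¹ * (z * u) * g := by rw [hw, hu]; group
        _ = g⁻¹ * (u * z) * g := by rw [cu]
        _ = z * w := by rw [hw, hu]; group
    · exact S.X.mul_mem (S.X.mul_mem (S.X.inv_mem hg) S.z_mem_CX.2) hg
  have hcard : Nat.card ↥(S.CX ⊓ centralizer ({w} : Set G)) =
      Nat.card ↥(S.CX ⊓ centralizer ({u} : Set G)) := by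
    have key : ∀ {a b : G} {t : G}, t ∈ S.X → t * a * t⁻¹ = z → t * z * t⁻¹ = b →
        ∀ y ∈ S.CX ⊓ centralizer ({a} : Set G), t * y * t⁻¹ ∈ S.CX ⊓ centralizer ({b} : Set G) := by
      intro a b t ht e1 e2 y hy
      refine ⟨⟨mem_centralizer_singleton_iff.2 ?_, S.X.mul_mem (S.X.mul_mem ht hy.1.2) (S.X.inv_mem ht)⟩,
        mem_centralizer_singleton_iff.2 ?_⟩
      · rw [← e1]
        calc t * y * t⁻¹ * (t * a * t⁻¹) = t * (y * a) * t⁻¹ := by group
          _ = t * (a * y) * t⁻¹ := by rw [mem_centralizer_singleton_iff.1 hy.2]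
          _ = _ := by group
      · rw [← e2]
        calc t * y * t⁻¹ * (t * z * t⁻¹) = t * (y * z) * t⁻¹ := by group
          _ = t * (z * y) * t⁻¹ := by rw [mem_centralizer_singleton_iff.1 hy.1.1]
          _ = _ := by group
    refine Nat.card_congr
      { toFun := fun y => ⟨g * y * g⁻¹, key hg (by rw [hw]; group) rfl y y.2⟩
        invFun := fun y => ⟨g⁻¹ * y * g, by
          have := key (S.X.inv_mem hg) (show g⁻¹ * u * g⁻¹⁻¹ = z by rw [hu]; group)
            (show g⁻¹ * z * g⁻¹⁻¹ = w by rw [hw]; group) y y.2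
          simpa using this⟩
        left_inv := fun y => Subtype.ext (by group)
        right_inv := fun y => Subtype.ext (by group) }
  have hwK : w ∈ S.K := S.mem_K_of_big hwz (isConj_iff.2 ⟨g⁻¹, by rw [hw]; group⟩)
    (by rw [hcard]; exact lt_of_lt_of_le (by norm_num) (S.cent_K_ge hgK))
  have hwne : w ≠ 1 := fun e => S.F.z_ne (conj_eq_one_iff.1 (show g⁻¹ * z * g⁻¹⁻¹ = 1 by
    rw [← e, hw]; group))
  -- the conjugate of the centraliser of `w` in `R`
  set A : Subgroup G := (S.R ⊓ centralizer ({w} : Set G)).map (MulAut.conj g).toMonoidHom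
  have hA16 : 16 ≤ Nat.card A := by
    rw [Subgroup.card_map_of_injective (MulAut.conj g).injective]
    have h := card_orbit_mul S.R w
    rw [S.card_R] at h
    have hle : ({v : G | ∃ r ∈ S.R, r * w * r⁻¹ = v}).ncard ≤ 2 := by
      refine le_trans (Set.ncard_le_ncard (t := {w, w * z}) ?_ (Set.toFinite _))
        (le_trans (Set.ncard_insert_le _ _) (by simp))
      rintro v ⟨r, hr, rfl⟩
      have hrw := S.F.rad_conj (rad_le_Cen hr.1) hwK.1
      refine S.F.eq_or_eq_mul_z hrw hwK.1 ?_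
      rw [S.F.conj_co (rad_le_Cen hr.1) hwK.1, (S.F.mat_eq_id _ (rad_le_Cen hr.1)).2 hr.1,
        mv_idM (S.F.co_lt w hwK.1)]
    have := Nat.mul_le_mul_right (Nat.card ↥(S.R ⊓ centralizer ({w} : Set G))) hle
    omega
  have hACX : A ≤ S.CX := by
    rintro _ ⟨r, ⟨hr, hrw⟩, rfl⟩
    refine ⟨mem_centralizer_singleton_iff.2 ?_, S.X.mul_mem (S.X.mul_mem hg hr.2) (S.X.inv_mem hg)⟩
    show g * r * g⁻¹ * z = z * (g * r * g⁻¹)
    calc g * r * g⁻¹ * z = g * (r * w) * g⁻¹ := by rw [hw]; group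
      _ = g * (w * r) * g⁻¹ := by rw [mem_centralizer_singleton_iff.1 hrw]
      _ = _ := by rw [hw]; group
  set W : Subgroup G := A ⊓ S.R
  have hW8 : 8 ≤ Nat.card W := by
    let φ : A →* Cert.LGrp := S.matHom.comp (Subgroup.inclusion hACX)
    have hker : Nat.card φ.ker ≤ Nat.card W := by
      rw [← card_map_of_injective A.subtype_injective]
      refine card_le_of_le ?_
      rintro _ ⟨a, ha, rfl⟩
      exact ⟨a.2, S.mem_R_of_mat (hACX a.2)
        (congrArg (fun m : Cert.LGrp => m.1) (MonoidHom.mem_ker.1 ha))⟩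
    have hA32 : Nat.card A ∣ 32 := by
      rw [Subgroup.card_map_of_injective (MulAut.conj g).injective, ← S.card_R]
      exact card_dvd_of_le inf_le_left
    have hr : Nat.card φ.range ∣ 2 := by
      have h1 : Nat.card φ.range ∣ 32 := (φ.ker.index_dvd_card.trans hA32) |> fun h => by
        rwa [index_ker] at h
      have h2 : Nat.card φ.range ∣ 30 := by
        rw [← S.card_range]
        refine card_dvd_of_le ?_
        rintro _ ⟨a, rfl⟩
        exact ⟨_, rfl⟩
      exact Nat.dvd_gcd h1 h2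
    have := card_mul_index φ.ker
    rw [index_ker] at this
    have := Nat.mul_le_mul hker (Nat.le_of_dvd (by norm_num) hr)
    omega
  have hsq : ∀ x ∈ W, x ∈ S.K ∧ ∃ y ∈ S.K, g * y * g⁻¹ = x := by
    rintro x ⟨⟨y, ⟨hy, -⟩, rfl⟩, hx⟩
    change g * y * g⁻¹ ∈ S.R at hx
    change g * y * g⁻¹ ∈ S.K ∧ ∃ y' ∈ S.K, g * y' * g⁻¹ = g * y * g⁻¹
    have sy := S.F.sq y hy.1
    have sx := S.F.sq _ hx.1
    have hyy : y * y = 1 := by
      split_ifs at sy with hq
      · exfalso
        have e : g * y * g⁻¹ * (g * y * g⁻¹) = u := by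
          rw [show g * y * g⁻¹ * (g * y * g⁻¹) = g * (y * y) * g⁻¹ by group, sy]
        rw [e] at sx
        split_ifs at sx
        · exact hne sx
        · exact S.F.z_ne (conj_eq_one_iff.1 sx)
      · exact sy
    have hxx : g * y * g⁻¹ * (g * y * g⁻¹) = 1 := by
      rw [show g * y * g⁻¹ * (g * y * g⁻¹) = g * (y * y) * g⁻¹ by group, hyy]; group
    have hcl : IsConj y (g * y * g⁻¹) := isConj_iff.2 ⟨g, rfl⟩
    have hyK : y ∈ S.K := by
      rcases S.R_invol hy hyy with e | e | e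
      · exact ⟨hy.1, by rw [e]; decide⟩
      · exact S.mem_K_of hy hyy (Or.inr (S.zType hy.1 e))
      · exfalso
        rcases S.R_invol hx hxx with e' | e' | e'
        · rcases (S.F.co_eq_zero _ hx.1).1 e' with h | h
          · rw [conj_eq_one_iff] at h
            rw [h, S.F.co_one] at e
            exact absurd e (by decide)
          · exact (S.bType hy.1 e).1 ((h ▸ hcl : IsConj y z)).symm
        · exact (S.bType hy.1 e).1 ((S.zType hx.1 e').trans hcl.symm)
        · exact hne (S.btype_center hx hy e' e hg rfl)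
    refine ⟨?_, y, hyK, rfl⟩
    rcases eq_or_ne y 1 with rfl | h1
    · simp [one_mem]
    · exact S.mem_K_of hx hxx (Or.inr ((S.zType_K hyK h1).trans hcl))
  have hWK : W = S.K := eq_of_le_of_card_ge (fun x hx => (hsq x hx).1) (S.card_K ▸ hW8)
  have hWm : W = S.K.map (MulAut.conj g).toMonoidHom := by
    refine eq_of_le_of_card_ge (fun x hx => ?_) ?_
    · obtain ⟨y, hy, rfl⟩ := (hsq x hx).2
      exact ⟨y, hy, rfl⟩
    · rw [Subgroup.card_map_of_injective (MulAut.conj g).injective, S.card_K]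
      exact hW8
  intro k hk
  rw [← hWK, hWm]
  exact ⟨k, hk, rfl⟩

end Setup

end CfsgLib.J4Type.Five
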