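import Cfsg.Agent.Lib.J4Type.Three.Mats
import Cfsg.Agent.Lib.J4Type.NV.Basic
import Cfsg.Agent.Lib.J4Type.Cert.Group
import Cfsg.Agent.Lib.J4Type.CoreP.Cent

/-!
Centralisers in the centraliser of the involution of elements of order five and seven centralising
`P`: their matrices are listed by a certificate.
-/

set_option autoImplicit false
set_option linter.unusedSectionVars false

namespace CfsgLib.J4Type.Local57

open Cfsg Subgroup CoreP

/-- The three powers of the scalar. -/
def pPows : List (List ℕ) := [idM, pOm, mm pOm pOm]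

/-- The products of representatives with powers of the scalar. -/
def spread (reps : List (List ℕ)) : List (List ℕ) :=
  reps.flatMap fun r => pPows.map fun s => mm r s

/-- The certificate: representatives of twice `p` classes modulo scalars commuting with `m`. -/
def centCheck (m : List ℕ) (reps : List (List ℕ)) (p : ℕ) : Bool :=
  Nat.beq reps.length (2 * p) &&
  (reps.all fun r => Three.eqM (mm r m) (mm m r)) &&
  ((List.range reps.length).all fun i => (List.range i).all fun j => pPows.all fun s =>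
    !Three.eqM (reps.getD i idM) (mm (reps.getD j idM) s)) &&
  (pPows.all fun s => !Three.eqM m s) &&
  (Three.eqM (List.foldr mm idM (List.replicate p m)) idM) &&
  Three.eqM (mm m pOm) (mm pOm m)

variable {G : Type*} [Group G] [Finite G] {z : G} {P : Subgroup G} (F : Frame z P)

include F

theorem mat_mem_pPows {x : G} (hx : x ∈ P) : F.mat x ∈ pPows := by
  replace hx : x ∈ zpowers F.p0 := F.zpowers_p0.ge hx
  obtain ⟨k, hk⟩ := (isOfFinOrder_iff_pow_eq_one.2
    ⟨3, by norm_num, F.p0_cube⟩).mem_powers_iff_mem_zpowers.2 hx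
  change F.p0 ^ k = x at hk
  rw [pow_eq_pow_mod k F.p0_cube] at hk
  have := Nat.mod_lt k (show 0 < 3 by norm_num)
  interval_cases k % 3 <;> subst hk
  · rw [pow_zero, F.mat_one]; simp [pPows]
  · rw [pow_one, F.mat_p0]; simp [pPows]
  · rw [pow_two, F.mat_mul _ F.p0_mem_cen _ F.p0_mem_cen, F.mat_p0]; simp [pPows]

omit [Finite G] in
theorem mat_rad_mul {e x : G} (he : e ∈ Rad z) (hx : x ∈ Cen z) : F.mat (e * x) = F.mat x := by
  rw [F.mat_mul _ (rad_le_Cen he) _ hx, (F.mat_eq_id _ (rad_le_Cen he)).2 he,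
    (F.mat_inL x hx).idM_mm]

/-- An element of odd order centralising `P` over a given matrix. -/
theorem exists_gen {m : List ℕ} (hm : InL m) (hc : mm m pOm = mm pOm m) {p : ℕ} (hp : p.Prime)
    (hodd : Odd p) (hpow : List.foldr mm idM (List.replicate p m) = idM) (hne : m ≠ idM) :
    ∃ q ∈ CP z P, orderOf q = p ∧ F.mat q = m := by
  obtain ⟨c, hc', hcm⟩ := F.exists_lift hm hc
  have hpw : ∀ n, F.mat (c ^ n) = List.foldr mm idM (List.replicate n m) := by
    intro n
    induction n with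
    | zero => simpa using F.mat_one
    | succ n ih =>
      rw [pow_succ', F.mat_mul c hc'.1 _ (pow_mem hc'.1 n), ih, hcm, List.replicate_succ,
        List.foldr_cons]
  have h1 : c ^ p ∈ Rad z := (F.mat_eq_id _ (pow_mem hc'.1 p)).1 ((hpw p).trans hpow)
  have h2 : (c ^ p) ^ 2 = 1 := by
    rcases F.mem_rad_centP h1 (pow_mem hc'.2 p) with e | e <;> rw [e]
    · simp
    · rw [pow_two, F.z_mul_z]
  obtain ⟨k, hk⟩ := hodd
  refine ⟨c ^ (p + 1), pow_mem hc' _, ?_, ?_⟩
  · haveI : Fact p.Prime := ⟨hp⟩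
    refine orderOf_eq_prime ?_ fun e => ?_
    · rw [← pow_mul, show (p + 1) * p = p * 2 * (k + 1) by subst hk; ring, pow_mul,
        pow_mul c p 2, h2, one_pow]
    · have := hpw (p + 1)
      rw [e, F.mat_one, List.replicate_succ, List.foldr_cons, hpow, hm.mm_idM] at this
      exact hne this.symm
  · rw [hpw, List.replicate_succ, List.foldr_cons, hpow, hm.mm_idM]

/-- A normalising lift of a matrix moving `q` to a power. -/
theorem exists_moving {q : G} (hq : q ∈ CP z P) (hodd : Odd (orderOf q)) {r : List ℕ} (hr : InL r)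
    (k : ℕ) (h : mm r (F.mat q) = mm (F.mat (q ^ k)) r) :
    ∃ l ∈ Cen z ⊓ normalizer (P : Set G), F.mat l = r ∧ l * q * l⁻¹ = q ^ k := by
  obtain ⟨B⟩ := exists_base F
  obtain ⟨l, hl, rfl⟩ := F.mat_surj r hr
  refine ⟨l, hl, rfl, ?_⟩
  have hqN : q ∈ normalizer (P : Set G) := B.C_le_norm hq
  have hx : l * q * l⁻¹ * (q ^ k)⁻¹ ∈ Rad z := by
    refine (F.mat_eq_id _ (mul_mem (mul_mem (mul_mem hl.1 hq.1) (inv_mem hl.1))
      (inv_mem (pow_mem hq.1 k)))).1 ?_
    have e1 : F.mat (l * q * l⁻¹) = F.mat (q ^ k) := by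
      rw [F.mat_mul _ (mul_mem hl.1 hq.1) _ (inv_mem hl.1), F.mat_mul _ hl.1 _ hq.1, h,
        ← F.mat_mul _ (pow_mem hq.1 k) _ hl.1, ← F.mat_mul _ (mul_mem (pow_mem hq.1 k) hl.1) _
        (inv_mem hl.1), mul_inv_cancel_right]
    rw [F.mat_mul _ (mul_mem (mul_mem hl.1 hq.1) (inv_mem hl.1)) _ (inv_mem (pow_mem hq.1 k)), e1,
      ← F.mat_mul _ (pow_mem hq.1 k) _ (inv_mem (pow_mem hq.1 k)), mul_inv_cancel, F.mat_one]
  have hxn : l * q * l⁻¹ * (q ^ k)⁻¹ ∈ normalizer (P : Set G) :=
    mul_mem (mul_mem (mul_mem hl.2 hqN) (inv_mem hl.2)) (inv_mem (pow_mem hqN k))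
  rcases B.rad_norm hx hxn with e | e
  · exact mul_inv_eq_one.1 e
  · exfalso
    rw [mul_inv_eq_iff_eq_mul] at e
    obtain ⟨j, hj⟩ := hodd
    have e1 : (z * q ^ k) ^ orderOf q = 1 := by
      rw [← e, conj_pow, pow_orderOf_eq_one, mul_one, mul_inv_cancel]
    rw [(show Commute z (q ^ k) from (B.comm_z (pow_mem hq.1 k)).symm).mul_pow, ← pow_mul,
      mul_comm k, pow_mul, pow_orderOf_eq_one, one_pow, mul_one, hj, pow_succ, pow_mul, pow_two,
      B.zz, one_pow, one_mul] at e1
    exact B.z_ne_one e1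

/-- A commuting lift. -/
theorem exists_comm {q : G} (hq : q ∈ CP z P) (hodd : Odd (orderOf q)) {r : List ℕ} (hr : InL r)
    (h : mm r (F.mat q) = mm (F.mat q) r) :
    ∃ l ∈ Cen z ⊓ normalizer (P : Set G), F.mat l = r ∧ l * q = q * l := by
  obtain ⟨l, hl, hm, he⟩ := exists_moving F hq hodd hr 1 (by simpa using h)
  exact ⟨l, hl, hm, mul_inv_eq_iff_eq_mul.1 (by simpa using he)⟩

/-- The matrices of the centraliser. -/
theorem mat_mem_spread {q : G} (hq : q ∈ CP z P) {p : ℕ} (hp : p = 5 ∨ p = 7) (ho : orderOf q = p)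
    {reps : List (List ℕ)} (hL : ∀ r ∈ reps, InL r) (hck : centCheck (F.mat q) reps p = true)
    {h : G} (hh : h ∈ Cen z) (hc : h * q = q * h) : F.mat h ∈ spread reps := by
  classical
  simp only [centCheck, Bool.and_eq_true, List.all_eq_true, List.mem_range,
    Bool.not_eq_true'] at hck
  obtain ⟨⟨⟨⟨⟨hlen, hcomm⟩, hdist⟩, hqs⟩, -⟩, -⟩ := hck
  replace hlen := Nat.eq_of_beq_eq_true hlen
  have hodd : Odd (orderOf q) := by rcases hp with rfl | rfl <;> rw [ho] <;> decide
  have hpr : p.Prime := by rcases hp with rfl | rfl <;> norm_num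
  haveI : Fact p.Prime := ⟨hpr⟩
  obtain ⟨B⟩ := exists_base F
  have hlift : ∀ i : Fin reps.length, ∃ l ∈ Cen z ⊓ normalizer (P : Set G),
      F.mat l = reps.getD i idM ∧ l * q = q * l := fun i => by
    have hmem : reps.getD i idM ∈ reps := by
      rw [List.getD_eq_getElem _ _ i.2]; exact List.getElem_mem _
    exact exists_comm F hq hodd (hL _ hmem) (Three.eqM_sound (hcomm _ hmem))
  choose l hl hlm hlq using hlift
  -- equal images differ by the scalar
  have hker : ∀ {a b : G} (ha : a ∈ Cen z) (hb : b ∈ Cen z), B.proj ⟨a, ha⟩ = B.proj ⟨b, hb⟩ →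
      ∃ s ∈ pPows, F.mat a = mm (F.mat b) s := by
    intro a b ha hb e
    have h1 : B.proj ⟨b⁻¹ * a, mul_mem (inv_mem hb) ha⟩ = 1 := by
      rw [show (⟨b⁻¹ * a, _⟩ : ↥(Cen z)) = (⟨b, hb⟩ : ↥(Cen z))⁻¹ * ⟨a, ha⟩ from rfl, map_mul,
        map_inv, e, inv_mul_cancel]
    obtain ⟨e', he, s, hs, heq⟩ := (B.ker _).1 h1
    refine ⟨F.mat s, mat_mem_pPows F hs, ?_⟩
    have hsm : F.mat (b⁻¹ * a) = F.mat s := by
      rw [show b⁻¹ * a = e' * s from heq]; exact mat_rad_mul F he (B.p_le hs)
    rw [← hsm, ← F.mat_mul _ hb _ (mul_mem (inv_mem hb) ha), mul_inv_cancel_left]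
  set φ : MulAut M := B.proj ⟨q, hq.1⟩ with hφ
  have hφo : orderOf φ = p := by
    refine orderOf_eq_prime ?_ fun e => ?_
    · rw [hφ, ← map_pow, show (⟨q, hq.1⟩ : ↥(Cen z)) ^ p = 1 from
        Subtype.ext (by simp [← ho, pow_orderOf_eq_one]), map_one]
    · obtain ⟨e', he, s, hs, heq⟩ := (B.ker _).1 e
      have := hqs (F.mat s) (mat_mem_pPows F hs)
      rw [show q = e' * s from heq, mat_rad_mul F he (B.p_le hs), Three.eqM_refl] at this
      exact Bool.noConfusion this
  -- the centraliser in the automorphism group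
  have hcard : Nat.card (centralizer ({φ} : Set (MulAut M))) ≤ 2 * p := by
    obtain ⟨a, ha⟩ := mem_inn_of_odd (φ := φ) (by rw [hφo]; rcases hp with rfl | rfl <;> decide)
    have hao : orderOf a = p := by
      rw [← hφo, ← ha]; exact (orderOf_injective _ CoreP.conj_injective a).symm
    set C := centralizer ({φ} : Set (MulAut M))
    have hI : C ⊓ InnM ≤ (centralizer ({a} : Set M)).map (MulAut.conj : M →* MulAut M) := by
      rintro _ ⟨hx, b, rfl⟩
      refine ⟨b, mem_centralizer_singleton_iff.2 (CoreP.conj_injective ?_), rfl⟩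
      rw [map_mul, map_mul, ha]
      exact mem_centralizer_singleton_iff.1 hx
    have h1 : Nat.card ↥(C ⊓ InnM) ≤ p := by
      refine (Subgroup.card_le_of_le hI).trans ?_
      rw [Subgroup.card_map_of_injective CoreP.conj_injective]
      rcases hp with rfl | rfl
      · exact (ClassK.M22Nse.cent_five hypM22 hao).le
      · exact (ClassK.M22Nse.cent_seven hypM22 hao).le
    have h2 := Subgroup.card_mul_index ((InnM).subgroupOf C)
    have h3 : ((InnM).subgroupOf C).index ≤ 2 := by
      have := Subgroup.relIndex_le_of_le_right (H := InnM) (le_top : C ≤ ⊤)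
        (by rw [relIndex_top_right, index_inn]; norm_num)
      rwa [relIndex_top_right, index_inn] at this
    have h4 : Nat.card ((InnM).subgroupOf C) = Nat.card ↥(C ⊓ InnM) := by
      rw [← Subgroup.card_map_of_injective C.subtype_injective, Subgroup.subgroupOf_map_subtype,
        inf_comm]
    rw [← h2, h4, mul_comm]
    exact Nat.mul_le_mul h3 h1
  let f : Fin reps.length → ↥(centralizer ({φ} : Set (MulAut M))) := fun i =>
    ⟨B.proj ⟨l i, (hl i).1⟩, mem_centralizer_singleton_iff.2 (by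
      rw [hφ, ← map_mul, ← map_mul]; exact congrArg B.proj (Subtype.ext (hlq i)))⟩
  have hinj : Function.Injective f := by
    intro i j e
    by_contra hne
    obtain ⟨a, b, hlt, e'⟩ : ∃ a b : Fin reps.length, (b : ℕ) < a ∧ f a = f b := by
      rcases Nat.lt_or_gt_of_ne (fun e' => hne (Fin.ext e')) with hlt | hlt
      · exact ⟨j, i, hlt, e.symm⟩
      · exact ⟨i, j, hlt, e⟩
    obtain ⟨s, hs, hm⟩ := hker (hl a).1 (hl b).1 (congrArg Subtype.val e')
    have := hdist a a.2 b hlt s hs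
    rw [← hlm a, ← hlm b, hm, Three.eqM_refl] at this
    exact Bool.noConfusion this
  have hbij := hinj.bijective_of_nat_card_le (by rw [Nat.card_fin, hlen]; exact hcard)
  obtain ⟨i, hi⟩ := hbij.2 ⟨B.proj ⟨h, hh⟩, mem_centralizer_singleton_iff.2 (by
    rw [hφ, ← map_mul, ← map_mul]; exact congrArg B.proj (Subtype.ext hc))⟩
  obtain ⟨s, hs, hm⟩ := hker hh (hl i).1 (congrArg Subtype.val hi).symm
  rw [hlm] at hm
  rw [hm, spread, List.mem_flatMap]
  refine ⟨_, ?_, List.mem_map.2 ⟨s, hs, rfl⟩⟩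
  rw [List.getD_eq_getElem _ _ i.2]
  exact List.getElem_mem _

end CfsgLib.J4Type.Local57
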