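import Cfsg.Agent.Lib.J4Type.Five.CentPrime
import Cfsg.Agent.Lib.J4Type.NV.Formulas
import Cfsg.Agent.Lib.J4Type.NV.Graph

/-!
The certificates for an element of order five of the centraliser of the involution.
-/

set_option autoImplicit false
set_option maxRecDepth 100000
set_option Elab.async false

namespace CfsgLib.J4Type.Five

open Local57

/-- The matrix of the element of order five. -/
def m5 : List ℕ := Three.wordM [2, 1, 2]

/-- A word for an outer matrix commuting with `m5`. -/
def outerWord : List ℕ :=
  [3, 4, 1, 3, 2, 4, 1, 0, 3, 0, 0, 1, 1, 0, 3, 0, 0, 0, 1, 2, 0, 2, 1, 5]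

/-- The words of the representatives. -/
def repWords : List (List ℕ) :=
  (List.range 5).flatMap fun i =>
    [(List.replicate i [2, 1, 2]).flatten, (List.replicate i [2, 1, 2]).flatten ++ outerWord]

/-- The representatives. -/
def reps5 : List (List ℕ) := repWords.map Three.wordM

/-- A matrix squaring `m5`. -/
def n5 : List ℕ := Three.wordM [2, 0, 5]

/-- The non-trivial fixed vectors in the smaller orbit. -/
def lineZ : List ℕ := [1857, 2434, 3779]

/-- The non-trivial fixed singular vectors in the larger orbit. -/
def lineB : List ℕ := [1, 2, 3, 1856, 2432, 3776]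

/-- The fixed vectors. -/
def fix5 : List ℕ :=
  [0, 1, 2, 3, 1856, 1857, 1858, 1859, 2432, 2433, 2434, 2435, 3776, 3777, 3778, 3779]

/-- The powers of `m5`. -/
def pows5 : List (List ℕ) := (List.range 5).map fun i => Three.wordM ((List.replicate i [2, 1, 2]).flatten)

theorem words_ok : (([2, 1, 2] :: [2, 0, 5] :: repWords).all fun w =>
    w.all fun i => Nat.ble (i + 1) 6) = true := by decide +kernel

theorem inL_m5 : InL m5 := Three.inL_wordM _ (by decide +kernel)

theorem inL_n5 : InL n5 := Three.inL_wordM _ (by decide +kernel)

theorem inL_reps5 : ∀ r ∈ reps5, InL r := by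
  intro r hr
  obtain ⟨w, hw, rfl⟩ := List.mem_map.1 hr
  exact Three.inL_wordM w
    (List.all_eq_true.1 words_ok w (List.mem_cons_of_mem _ (List.mem_cons_of_mem _ hw)))

theorem cent_ok : centCheck m5 reps5 5 = true := by decide +kernel

theorem spread_card : (spread reps5).Nodup ∧ (spread reps5).length = 30 ∧
    (spread reps5).all (fun c => Three.eqM (mm c m5) (mm m5 c)) = true := by decide +kernel

theorem square_ok : Three.eqM (mm n5 m5) (mm (mm m5 m5) n5) = true := by decide +kernel

theorem fix_ok : ((List.range 4096).all fun v =>
    Nat.beq (mv m5 v) v == fix5.contains v) = true := by decide +kernel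

theorem singular_ok : (fix5.all fun v => Nat.beq v 0 || qF v || lineZ.contains v ||
    lineB.contains v) = true := by decide +kernel

theorem lineB_ok : (lineB.all fun v => !qF v && (spread reps5).any fun c => Nat.beq (mv c 1) v) = true ∧
    (lineB.all fun v => !lineZ.contains v) = true := by decide +kernel

theorem lineZ_ok : (lineZ.all fun v => fix5.contains v && !qF v) = true ∧
    (lineZ.all fun v => lineZ.all fun w => !bF v w && (Nat.beq v w || lineZ.contains (v ^^^ w))) = true := by
  decide +kernel

theorem lineZ_orbit :
    Nat.beq (mv (Three.wordM [3, 2, 2, 4, 1]) 5) 1857 = true ∧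
    Nat.beq (mv (Three.wordM [2, 1, 3, 4, 0, 0]) 5) 2434 = true ∧
    Nat.beq (mv (Three.wordM [3, 2, 2, 4, 0, 1]) 5) 3779 = true := by decide +kernel

/-- An element outside the scalars times the powers fixes at most four fixed vectors. -/
theorem outer_fix_ok : ((spread reps5).all fun c =>
    (spread pows5).any (Three.eqM c) ||
      Nat.ble (fix5.filter fun v => Nat.beq (mv c v) v).length 4) = true := by decide +kernel

/-- Only the powers fix the line pointwise. -/
theorem pointwise_ok : ((spread reps5).all fun c =>
    pows5.any (Three.eqM c) || lineZ.any fun v => !Nat.beq (mv c v) v) = true := by decide +kernel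

theorem perp_ok : (fix5.all fun v => Nat.beq v 0 || lineZ.contains v ||
    lineZ.any fun w => bF v w) = true := by decide +kernel

theorem upper_ok : ((List.range 16).all fun c => Nat.beq c 0 ||
    !Three.eqM (mm (NV.upM c) m5) (mm m5 (NV.upM c))) = true := by decide +kernel

theorem plane_ok : (fix5.all fun v => !Nat.blt v 64 || Nat.blt v 4) = true := by decide +kernel

theorem inB_ok : NV.inB 1 = true ∧ NV.inB 65 = true ∧ NV.inB 5 = false ∧ NV.inB 69 = false := by
  decide +kernel

end CfsgLib.J4Type.Five
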