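import Cfsg.Agent.Lib.J4Type.Five.Struct

/-!
The normaliser of a subgroup of order five.
-/

set_option autoImplicit false
set_option linter.unusedSectionVars false
set_option maxRecDepth 100000

namespace CfsgLib.J4Type.Five

open Cfsg Subgroup Local57
open scoped Pointwise

/-- An element moving a generator to a power normalises the subgroup it generates. -/
theorem mem_normalizer_zpowers {G : Type*} [Group G] [Finite G] {g x : G}
    (h : g * x * g⁻¹ ∈ zpowers x) : g ∈ normalizer (zpowers x : Set G) := by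
  have hmap : (zpowers x).map (MulAut.conj g).toMonoidHom = zpowers x := by
    rw [MonoidHom.map_zpowers]
    refine eq_of_le_of_card_ge (zpowers_le.2 h) ?_
    rw [Nat.card_zpowers, Nat.card_zpowers]
    exact (Invol.orderOf_conj_eq g x).ge
  refine mem_normalizer_iff.2 fun y => ?_
  constructor
  · intro hy
    rw [← hmap]
    exact ⟨y, hy, rfl⟩
  · intro hy
    rw [← hmap] at hy
    obtain ⟨w, hw, e⟩ := hy
    have : w = y := (MulAut.conj g).injective e
    exact this ▸ hw

variable {G : Type*} [Group G] [Finite G] {z : G} {P : Subgroup G}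

namespace Setup

variable (S : Setup z P)

theorem exists_square : ∃ l : G, l * S.q * l⁻¹ = S.q ^ 2 := by
  obtain ⟨l, -, -, hlq⟩ := exists_moving S.F S.q_mem S.q_odd inL_n5 2 (by
    rw [pow_two, S.F.mat_mul _ S.q_mem.1 _ S.q_mem.1, S.q_mat]
    exact Three.eqM_sound square_ok)
  exact ⟨l, hlq⟩

theorem q5 : S.q ^ 5 = 1 := by
  rw [← S.q_order]; exact pow_orderOf_eq_one _

theorem pow_conj {l : G} {m : ℕ} (h : l * S.q * l⁻¹ = S.q ^ m) (j : ℕ) :
    l ^ j * S.q * (l ^ j)⁻¹ = S.q ^ (m ^ j) := by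
  induction j with
  | zero => simp
  | succ j ih =>
    calc l ^ (j + 1) * S.q * (l ^ (j + 1))⁻¹ = l ^ j * (l * S.q * l⁻¹) * (l ^ j)⁻¹ := by
          rw [pow_succ]; group
      _ = (l ^ j * S.q * (l ^ j)⁻¹) ^ m := by rw [h, conj_pow]
      _ = S.q ^ (m ^ (j + 1)) := by rw [ih, ← pow_mul, pow_succ]

theorem card_normalizer : Nat.card ↥(normalizer (zpowers S.q : Set G)) = 26880 := by
  have hX : S.X ≤ normalizer (zpowers S.q : Set G) := fun g hg => mem_normalizer_zpowers (by
    rw [S.mem_X.1 hg, mul_inv_cancel_right]; exact mem_zpowers _)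
  rw [card_orbit_mul (normalizer (zpowers S.q : Set G)) S.q,
    show normalizer (zpowers S.q : Set G) ⊓ centralizer ({S.q} : Set G) = S.X from
      le_antisymm inf_le_right (le_inf hX le_rfl), S.card_X]
  have he : {v : G | ∃ h ∈ normalizer (zpowers S.q : Set G), h * S.q * h⁻¹ = v} =
      ((zpowers S.q : Subgroup G) : Set G) \ {1} := by
    ext v
    constructor
    · rintro ⟨h, hh, rfl⟩
      refine ⟨(mem_normalizer_iff.1 hh _).1 (mem_zpowers _), fun e => ?_⟩
      have := S.q_order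
      rw [conj_eq_one_iff.1 e, orderOf_one] at this
      omega
    · rintro ⟨hv, h1⟩
      obtain ⟨l, hl⟩ := S.exists_square
      have hlN : l ∈ normalizer (zpowers S.q : Set G) :=
        mem_normalizer_zpowers (hl ▸ pow_mem (mem_zpowers _) 2)
      obtain ⟨k, hk⟩ := (isOfFinOrder_of_finite S.q).mem_powers_iff_mem_zpowers.2 hv
      change S.q ^ k = v at hk
      rw [← pow_mod_orderOf, S.q_order] at hk
      have hne : k % 5 ≠ 0 := fun e => h1 (by rw [← hk, e, pow_zero]; rfl)
      have := Nat.mod_lt k (show 0 < 5 by norm_num)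
      obtain ⟨j, hj⟩ : ∃ j, (2 ^ j) % 5 = k % 5 := by
        interval_cases k % 5
        · exact absurd rfl hne
        · exact ⟨0, rfl⟩
        · exact ⟨1, rfl⟩
        · exact ⟨3, rfl⟩
        · exact ⟨2, rfl⟩
      exact ⟨l ^ j, pow_mem hlN j, by rw [S.pow_conj hl, pow_eq_pow_mod (2 ^ j) S.q5, hj, hk]⟩
  rw [he, Set.ncard_sdiff_singleton_of_mem (one_mem (zpowers S.q)), ← Nat.card_coe_set_eq,
    SetLike.coe_sort_coe, Nat.card_zpowers, S.q_order]

/-- An element of order seven centralises no conjugate of the involution in `K`. -/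
theorem seven_fix_free {s : G} (hs : s ∈ S.X) (ho : orderOf s = 7) {k : G} (hk : k ∈ S.K)
    (h : s * k = k * s) : k = 1 := by
  by_contra h1
  obtain ⟨g, hg, rfl⟩ := S.exists_moverK hk h1
  have hm : g⁻¹ * s * g⁻¹⁻¹ ∈ S.CX := by
    refine ⟨mem_centralizer_singleton_iff.2 ?_,
      S.X.mul_mem (S.X.mul_mem (S.X.inv_mem hg.1) hs) (S.X.inv_mem (S.X.inv_mem hg.1))⟩
    calc g⁻¹ * s * g⁻¹⁻¹ * z = g⁻¹ * (s * (g * z * g⁻¹)) * g := by group
      _ = g⁻¹ * (g * z * g⁻¹ * s) * g := by rw [h]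
      _ = _ := by group
  have := Subgroup.orderOf_dvd_natCard _ hm
  rw [Invol.orderOf_conj_eq, ho, S.card_CX] at this
  norm_num at this

/-- No involution of the centraliser of `q` normalises a subgroup of order seven. -/
theorem seven_no_invol {s t : G} (hs : s ∈ S.X) (ho : orderOf s = 7) (ht : t ∈ S.X)
    (h2 : t * t = 1) (h1 : t ≠ 1) (hn : t * s * t⁻¹ ∈ zpowers s) : False := by
  have hinv : t⁻¹ = t := inv_eq_of_mul_eq_one_right h2
  by_cases htK : t ∈ S.K
  · have ha : t * s * t⁻¹ * s⁻¹ ∈ zpowers s := mul_mem hn (inv_mem (mem_zpowers _))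
    have hb : t * s * t⁻¹ * s⁻¹ ∈ S.K := by
      rw [show t * s * t⁻¹ * s⁻¹ = t * (s * t⁻¹ * s⁻¹) by group]
      exact S.K.mul_mem htK (S.K_normal hs (S.K.inv_mem htK))
    have h7 := Subgroup.orderOf_dvd_natCard _ ha
    have h8 := Subgroup.orderOf_dvd_natCard _ hb
    rw [Nat.card_zpowers, ho] at h7
    rw [S.card_K] at h8
    have := orderOf_eq_one_iff.1 (Nat.eq_one_of_dvd_coprimes (by norm_num) h7 h8)
    rw [mul_inv_eq_one, mul_inv_eq_iff_eq_mul] at this
    exact h1 (S.seven_fix_free hs ho htK this.symm)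
  have htN : t ∈ S.N := S.X_eq_N ▸ ht
  obtain ⟨j, hj⟩ := (isOfFinOrder_of_finite s).mem_powers_iff_mem_zpowers.2 hn
  change s ^ j = t * s * t⁻¹ at hj
  rw [← pow_mod_orderOf, ho] at hj
  have hj7 := Nat.mod_lt j (show 0 < 7 by norm_num)
  generalize j % 7 = i at hj hj7
  have hsq : s ^ (i * i) = s := by
    rw [pow_mul, hj, conj_pow, hj]
    calc t * (t * s * t⁻¹) * t⁻¹ = t * t * s * (t * t)⁻¹ := by group
      _ = s := by rw [h2]; group
  have hs7 : s ^ 7 = 1 := ho ▸ pow_orderOf_eq_one s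
  have hi : i = 1 ∨ i = 6 := by
    have hd : i * i ≡ 1 [MOD 7] := by
      rw [← ho]; exact pow_eq_pow_iff_modEq.1 (hsq.trans (pow_one s).symm)
    interval_cases i <;> revert hd <;> decide
  rcases hi with rfl | rfl
  · rw [pow_one] at hj
    obtain ⟨n, hn', hR, hc⟩ := S.invol_N htN h2 htK
    have hm : n * s * n⁻¹ ∈ S.CX := (S.cent_lineB hR hc).1 ⟨S.X.mul_mem (S.X.mul_mem hn'.1 hs)
      (S.X.inv_mem hn'.1), mem_centralizer_singleton_iff.2 (by
        calc n * s * n⁻¹ * (n * t * n⁻¹) = n * (s * t) * n⁻¹ := by group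
          _ = n * (t * s) * n⁻¹ := by rw [eq_mul_inv_iff_mul_eq.1 hj]
          _ = _ := by group)⟩
    have := Subgroup.orderOf_dvd_natCard _ hm
    rw [Invol.orderOf_conj_eq, ho, S.card_CX] at this
    norm_num at this
  · -- inversion
    have hinvs : t * s * t = s⁻¹ := by
      have : t * s * t⁻¹ = s⁻¹ := by
        rw [← hj]; exact eq_inv_of_mul_eq_one_left (by rw [← pow_succ]; exact hs7)
      rwa [hinv] at this
    have hn' : ∀ v ∈ S.K, t * v * t ∈ S.K := fun v hv => by
      have := S.N_conj htN hv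
      rwa [hinv] at this
    have hmove : ∃ v ∈ S.K, t * v * t ≠ v := by
      by_contra hcon
      push Not at hcon
      obtain ⟨i, hi, k, hk, e⟩ := S.cent_K ht fun k hk => by
        calc t * k = t * k * (t * t) := by rw [h2, mul_one]
          _ = t * k * t * t := by group
          _ = k * t := by rw [hcon k hk]
      have hsq2 : S.q ^ (2 * i) = 1 := by
        have hqk := (S.commute_q_K hk).pow_left i
        calc S.q ^ (2 * i) = S.q ^ i * S.q ^ i * (k * k) := by
              rw [S.K_sq hk, mul_one, two_mul, pow_add]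
          _ = S.q ^ i * (S.q ^ i * k) * k := by group
          _ = S.q ^ i * (k * S.q ^ i) * k := by rw [hqk.eq]
          _ = 1 := by rw [← h2, e]; group
      have hd := orderOf_dvd_of_pow_eq_one hsq2
      rw [S.q_order] at hd
      have : i = 0 := by omega
      rw [this, pow_zero, one_mul] at e
      exact htK (e ▸ hk)
    obtain ⟨h4, -⟩ := Recog.QSThree.four_fixed S.card_K (fun a ha b hb => S.K_comm ha hb)
      (fun a ha => S.K_sq ha) h2 hn' hmove
    -- two fixed points
    set W := S.K ⊓ centralizer ({t} : Set G)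
    obtain ⟨k, hk, hk1⟩ : ∃ k ∈ W, k ≠ 1 := by
      by_contra hcon
      push Not at hcon
      rw [(Subgroup.eq_bot_iff_forall W).2 hcon, Subgroup.card_bot] at h4
      omega
    obtain ⟨l, hl, hl1, hlk⟩ : ∃ l ∈ W, l ≠ 1 ∧ l ≠ k := by
      by_contra hcon
      push Not at hcon
      have hsub : (W : Set G) ⊆ {1, k} := fun l hl => by
        by_cases h : l = 1
        · exact Or.inl h
        · exact Or.inr (hcon l hl h)
      have := Set.ncard_le_ncard hsub (Set.toFinite _)
      rw [← Nat.card_coe_set_eq, SetLike.coe_sort_coe, h4, Set.ncard_pair hk1.symm] at this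
      omega
    -- the powers of `s` are transitive
    have horb : ∃ a : ℕ, a < 7 ∧ s ^ a * k * (s ^ a)⁻¹ = l := by
      let f : Fin 7 → ↥((S.K : Set G) \ {1}) := fun a => ⟨s ^ (a : ℕ) * k * (s ^ (a : ℕ))⁻¹,
        S.K_normal (pow_mem hs _) hk.1, fun e => hk1 (conj_eq_one_iff.1 e)⟩
      have hf : Function.Injective f := by
        intro a b e
        by_contra hne
        obtain ⟨a, b, hlt, e⟩ : ∃ a b : Fin 7, (a : ℕ) < b ∧ f a = f b := by
          rcases Nat.lt_or_gt_of_ne (fun h => hne (Fin.ext h)) with h | h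
          · exact ⟨a, b, h, e⟩
          · exact ⟨b, a, h, e.symm⟩
        have e' : s ^ (a : ℕ) * k * (s ^ (a : ℕ))⁻¹ = s ^ (b : ℕ) * k * (s ^ (b : ℕ))⁻¹ :=
          congrArg Subtype.val e
        have hd : orderOf (s ^ ((b : ℕ) - a)) = 7 := by
          haveI : Fact (Nat.Prime 7) := ⟨by norm_num⟩
          refine orderOf_eq_prime (by rw [← pow_mul, mul_comm, pow_mul, hs7, one_pow]) fun h => ?_
          have := orderOf_dvd_of_pow_eq_one h
          rw [ho] at this
          omega
        refine hk1 (S.seven_fix_free (pow_mem hs _) hd hk.1 ?_)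
        have hb : s ^ (b : ℕ) = s ^ (a : ℕ) * s ^ ((b : ℕ) - a) := by
          rw [← pow_add, Nat.add_sub_cancel' hlt.le]
        rw [hb] at e'
        calc s ^ ((b : ℕ) - a) * k
            = (s ^ (a : ℕ))⁻¹ * (s ^ (a : ℕ) * s ^ ((b : ℕ) - a) * k *
                (s ^ (a : ℕ) * s ^ ((b : ℕ) - a))⁻¹) * (s ^ (a : ℕ) * s ^ ((b : ℕ) - a)) := by group
          _ = k * s ^ ((b : ℕ) - a) := by rw [← e']; group
      have hb := hf.bijective_of_nat_card_le (by
        rw [Nat.card_coe_set_eq, Set.ncard_sdiff_singleton_of_mem (one_mem S.K),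
          ← Nat.card_coe_set_eq, SetLike.coe_sort_coe, S.card_K, Nat.card_fin])
      obtain ⟨a, ha⟩ := hb.2 ⟨l, hl.1, hl1⟩
      exact ⟨a, a.2, congrArg Subtype.val ha⟩
    obtain ⟨a, ha, e⟩ := horb
    have htk : t * k * t = k := by
      rw [(mem_centralizer_singleton_iff.1 hk.2).symm, mul_assoc, h2, mul_one]
    have htl : t * l * t = l := by
      rw [(mem_centralizer_singleton_iff.1 hl.2).symm, mul_assoc, h2, mul_one]
    have hta : t * s ^ a * t = (s ^ a)⁻¹ := by
      rw [← inv_pow, ← hinvs]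
      have := conj_pow (i := a) (a := t) (b := s)
      rw [hinv] at this
      exact this.symm
    have e2 : (s ^ a)⁻¹ * k * s ^ a = l := by
      conv_rhs => rw [← htl, ← e]
      calc (s ^ a)⁻¹ * k * s ^ a = (t * s ^ a * t) * (t * k * t) * ((t * s ^ a * t))⁻¹ := by
            rw [hta, htk]; group
        _ = t * (s ^ a * k * (s ^ a)⁻¹) * t := by
            rw [mul_inv_rev, mul_inv_rev, hinv]
            calc t * s ^ a * t * (t * k * t) * (t * ((s ^ a)⁻¹ * t))
                = t * s ^ a * (t * t) * k * (t * t) * (s ^ a)⁻¹ * t := by group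
              _ = _ := by rw [h2]; group
    have hfix : s ^ (2 * a) * k = k * s ^ (2 * a) := by
      calc s ^ (2 * a) * k = s ^ a * (s ^ a * k * (s ^ a)⁻¹) * s ^ a := by
            rw [two_mul, pow_add]; group
        _ = s ^ a * ((s ^ a)⁻¹ * k * s ^ a) * s ^ a := by rw [e, e2]
        _ = k * s ^ (2 * a) := by rw [two_mul, pow_add]; group
    rcases Nat.eq_zero_or_pos a with rfl | hpos
    · exact hlk (by rw [← e]; simp)
    · haveI : Fact (Nat.Prime 7) := ⟨by norm_num⟩
      refine hk1 (S.seven_fix_free (pow_mem hs _) (orderOf_eq_prime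
        (by rw [← pow_mul, mul_comm, pow_mul, hs7, one_pow]) fun h => ?_) hk.1 hfix)
      have := orderOf_dvd_of_pow_eq_one h
      rw [ho] at this
      omega

/-- The Frobenius group of order twenty. -/
theorem exists_frob : ∃ R : Subgroup G, zpowers S.q ≤ R ∧ R ≤ normalizer (zpowers S.q : Set G) ∧
    Nat.card R = 20 ∧ R ⊓ S.X = zpowers S.q := by
  haveI : Fact (Nat.Prime 7) := ⟨by norm_num⟩
  obtain ⟨⟨s, hs⟩, hso⟩ := exists_prime_orderOf_dvd_card' (G := S.X) 7 (by rw [S.card_X]; norm_num)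
  rw [Subgroup.orderOf_mk] at hso
  obtain ⟨l, hl⟩ := S.exists_square
  have hX_conj : ∀ x ∈ S.X, l * x * l⁻¹ ∈ S.X := fun x hx => S.mem_X.2 (by
    have e : (l * S.q * l⁻¹) ^ 3 = S.q := by
      rw [hl, ← pow_mul, pow_eq_pow_mod (2 * 3) S.q5]
      exact pow_one _
    rw [← e, conj_pow]
    have hc := (show Commute x S.q from S.mem_X.1 hx).pow_right 3
    calc l * x * l⁻¹ * (l * S.q ^ 3 * l⁻¹) = l * (x * S.q ^ 3) * l⁻¹ := by group
      _ = l * (S.q ^ 3 * x) * l⁻¹ := by rw [hc.eq]
      _ = _ := by group)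
  -- Frattini
  have hfac : (Nat.card S.X).factorization 7 = 1 := by
    rw [S.card_X, show 6720 = 7 ^ 1 * 960 by norm_num, Nat.factorization_mul (by norm_num) (by norm_num),
      Nat.Prime.factorization_pow (by norm_num : Nat.Prime 7), Finsupp.add_apply,
      Finsupp.single_eq_same, Nat.factorization_eq_zero_of_not_dvd (by norm_num)]
  let a : S.X := ⟨s, hs⟩
  let b : S.X := ⟨l * s * l⁻¹, hX_conj s hs⟩
  have hbo : orderOf b = 7 := by rw [Subgroup.orderOf_mk, Invol.orderOf_conj_eq, hso]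
  have hao : orderOf a = 7 := (Subgroup.orderOf_mk _ _).trans hso
  let Sa := Sylow.ofCard (zpowers a) (by rw [Nat.card_zpowers, hao, hfac, pow_one])
  let Sb := Sylow.ofCard (zpowers b) (by rw [Nat.card_zpowers, hbo, hfac, pow_one])
  obtain ⟨c, hc⟩ := MulAction.exists_smul_eq S.X Sb Sa
  have hmem : c * b * c⁻¹ ∈ (Sa : Subgroup S.X) := by
    rw [← hc, Sylow.coe_subgroup_smul]
    exact ⟨b, mem_zpowers b, rfl⟩
  obtain ⟨k, hk⟩ := mem_zpowers_iff.1 (show c * b * c⁻¹ ∈ zpowers a from hmem)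
  set y := (c : G) * l with hy
  have hys : y * s * y⁻¹ ∈ zpowers s := mem_zpowers_iff.2 ⟨k, by
    have : s ^ k = (c : G) * (l * s * l⁻¹) * (c : G)⁻¹ := congrArg Subtype.val hk
    rw [this, hy]; group⟩
  have hyq : y * S.q * y⁻¹ = S.q ^ 2 := by
    calc y * S.q * y⁻¹ = (c : G) * (l * S.q * l⁻¹) * (c : G)⁻¹ := by rw [hy]; group
      _ = S.q ^ 2 := by
        rw [hl, ((show Commute (c : G) S.q from S.mem_X.1 c.2).pow_right 2).eq, mul_inv_cancel_right]
  -- the two-part
  obtain ⟨e, m, hm, hym⟩ := Nat.exists_eq_two_pow_mul_odd (orderOf_pos y).ne'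
  set w := y ^ m with hw
  have hws : w ∈ normalizer (zpowers s : Set G) := pow_mem (mem_normalizer_zpowers hys) m
  have hwq : w * S.q * w⁻¹ = S.q ^ (2 ^ m) := S.pow_conj hyq m
  have hw4X : w ^ 4 ∈ S.X := S.mem_X.2 (by
    have h := S.pow_conj hwq 4
    rw [pow_eq_pow_mod _ S.q5] at h
    have h16 : (2 ^ m) ^ 4 % 5 = 1 := by
      rw [← pow_mul, mul_comm m 4, pow_mul, Nat.pow_mod]
      norm_num
    rw [h16, pow_one] at h
    exact mul_inv_eq_iff_eq_mul.1 h)
  have hw4 : w ^ 4 = 1 := by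
    by_contra hne
    haveI : Fact (Nat.Prime 2) := ⟨Nat.prime_two⟩
    have hd : orderOf (w ^ 4) ∣ 2 ^ e := (orderOf_pow_dvd 4).trans (orderOf_dvd_of_pow_eq_one (by
      rw [hw, ← pow_mul, mul_comm, ← hym, pow_orderOf_eq_one]))
    obtain ⟨i, -, hi⟩ := (Nat.dvd_prime_pow Nat.prime_two).1 hd
    rcases i with _ | i
    · rw [pow_zero, orderOf_eq_one_iff] at hi; exact hne hi
    set t := (w ^ 4) ^ (2 ^ i) with ht
    have ht2 : t * t = 1 := by
      rw [ht, ← pow_two, ← pow_mul, ← pow_succ, ← hi, pow_orderOf_eq_one]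
    have ht1 : t ≠ 1 := fun h => by
      have := Nat.le_of_dvd (by positivity) (orderOf_dvd_of_pow_eq_one h)
      rw [hi, pow_succ] at this
      have : 0 < 2 ^ i := by positivity
      omega
    exact S.seven_no_invol hs hso (pow_mem hw4X _) ht2 ht1
      ((mem_normalizer_iff.1 (pow_mem (pow_mem hws 4) _) s).1 (mem_zpowers s))
  have hw2X : w ^ 2 ∉ S.X := fun h => by
    have e1 := S.pow_conj hwq 2
    rw [S.mem_X.1 h, mul_inv_cancel_right, ← pow_mul, mul_comm, pow_mul] at e1
    have h4 : ((2 : ℕ) ^ 2) ^ m % 5 = 4 := by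
      obtain ⟨j, rfl⟩ := hm
      rw [pow_succ, pow_mul, Nat.mul_mod, Nat.pow_mod]
      norm_num
    rw [pow_eq_pow_mod _ S.q5, h4] at e1
    have := orderOf_dvd_of_pow_eq_one (show S.q ^ 3 = 1 from mul_right_cancel (b := S.q) (by
      rw [← pow_succ, one_mul]; exact e1.symm))
    rw [S.q_order] at this
    norm_num at this
  have hwo : orderOf w = 4 := by
    have h := orderOf_eq_prime_pow (p := 2) (n := 1) (x := w)
      (fun h => hw2X (by rw [show w ^ 2 = 1 from h]; exact one_mem _)) hw4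
    simpa using h
  have hwN : w ∈ normalizer (zpowers S.q : Set G) :=
    mem_normalizer_zpowers (hwq ▸ pow_mem (mem_zpowers _) _)
  have hle : zpowers w ≤ normalizer (zpowers S.q : Set G) := zpowers_le.2 hwN
  refine ⟨zpowers S.q ⊔ zpowers w, le_sup_left, sup_le le_normalizer hle, ?_, ?_⟩
  · have h := CoreP.card_sup_inf hle
    rw [Subgroup.inf_eq_bot_of_coprime (H := zpowers S.q) (K := zpowers w) (by
      rw [Nat.card_zpowers, Nat.card_zpowers, S.q_order, hwo]; norm_num), Subgroup.card_bot,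
      mul_one, Nat.card_zpowers, Nat.card_zpowers, S.q_order, hwo] at h
    exact h
  · refine le_antisymm ?_ (le_inf le_sup_left (zpowers_le.2 S.q_mem_X))
    rintro x ⟨hx, hxX⟩
    obtain ⟨a, ha, b, hb, rfl⟩ : ∃ a ∈ zpowers S.q, ∃ b ∈ zpowers w, a * b = x := by
      have := coe_mul_of_right_le_normalizer_left (zpowers S.q) (zpowers w) hle
      have hx' : x ∈ ((zpowers S.q : Subgroup G) : Set G) * ((zpowers w : Subgroup G) : Set G) := by
        rw [← this]; exact hx
      exact Set.mem_mul.1 hx'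
    have hbX : b ∈ S.X := by
      have := S.X.mul_mem (S.X.inv_mem (zpowers_le.2 S.q_mem_X ha)) hxX
      rwa [inv_mul_cancel_left] at this
    obtain ⟨j, hj⟩ := (isOfFinOrder_of_finite w).mem_powers_iff_mem_zpowers.2 hb
    change w ^ j = b at hj
    rw [← pow_mod_orderOf, hwo] at hj
    have := Nat.mod_lt j (show 0 < 4 by norm_num)
    interval_cases j % 4
    · rw [← hj, pow_zero, mul_one]; exact ha
    · refine absurd (S.X.pow_mem (hj ▸ hbX) 2) ?_
      rw [pow_one]; exact hw2X
    · exact absurd (hj ▸ hbX) hw2X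
    · refine absurd (S.X.pow_mem (hj ▸ hbX) 2) fun h => hw2X ?_
      rwa [← pow_mul, show 3 * 2 = 4 + 2 from rfl, pow_add, hw4, one_mul] at h

end Setup

end CfsgLib.J4Type.Five
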