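import Cfsg.Agent.Lib.J4Type.Five.Setup

/-!
The distinguished elementary abelian subgroup of order eight in the centraliser of an element of
order five, and counting lemmas.
-/

set_option autoImplicit false
set_option linter.unusedSectionVars false
set_option maxRecDepth 100000

namespace CfsgLib.J4Type.Five

open Cfsg Subgroup Local57

/-- The vectors of the distinguished line with the zero vector. -/
def lineK : List ℕ := [0, 1857, 2434, 3779]

theorem lineK_ok : (lineK.all fun v => lineK.all fun w => !bF v w && lineK.contains (v ^^^ w)) = true ∧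
    (lineK.all fun v => fix5.contains v && !qF v) = true ∧ lineK.Nodup := by decide +kernel

theorem inner_sq_ok : ((spread pows5).all fun c =>
    !Three.eqM (mm c c) idM || Three.eqM c idM) = true := by decide +kernel

theorem outer_cent_ok : ((spread reps5).all fun c =>
    (spread pows5).any (Three.eqM c) || !Three.eqM (mm c c) idM ||
      (Nat.ble ((spread reps5).filter fun d => Three.eqM (mm c d) (mm d c)).length 10)) = true := by
  decide +kernel

variable {G : Type*} [Group G] [Finite G]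

/-- Orbit and stabiliser for conjugation by a subgroup. -/
theorem card_orbit_mul (H : Subgroup G) (u : G) :
    Nat.card H = ({v : G | ∃ h ∈ H, h * u * h⁻¹ = v}).ncard *
      Nat.card ↥(H ⊓ centralizer ({u} : Set G)) := by
  set O : Set G := {v : G | ∃ h ∈ H, h * u * h⁻¹ = v}
  let L : Subgroup H := (centralizer ({u} : Set G)).subgroupOf H
  let f : H ⧸ L → O := Quotient.lift (fun h : H => (⟨(h : G) * u * (h : G)⁻¹, h, h.2, rfl⟩ : O)) (by
    intro a b hab
    have h0 := QuotientGroup.leftRel_apply.1 hab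
    have h : (a : G)⁻¹ * b * u = u * ((a : G)⁻¹ * b) := mem_centralizer_singleton_iff.1 h0
    apply Subtype.ext
    show (a : G) * u * (a : G)⁻¹ = (b : G) * u * (b : G)⁻¹
    calc (a : G) * u * (a : G)⁻¹ = (a : G) * (u * ((a : G)⁻¹ * b)) * (b : G)⁻¹ := by group
      _ = (a : G) * ((a : G)⁻¹ * b * u) * (b : G)⁻¹ := by rw [h]
      _ = _ := by group)
  have hb : Function.Bijective f := by
    constructor
    · intro x y
      induction x using Quotient.inductionOn with | _ a =>
      induction y using Quotient.inductionOn with | _ b =>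
      intro h
      have h' : (a : G) * u * (a : G)⁻¹ = (b : G) * u * (b : G)⁻¹ := congrArg Subtype.val h
      refine Quotient.sound (QuotientGroup.leftRel_apply.2 (mem_centralizer_singleton_iff.2 ?_))
      show (a : G)⁻¹ * b * u = u * ((a : G)⁻¹ * b)
      calc (a : G)⁻¹ * b * u = (a : G)⁻¹ * ((b : G) * u * (b : G)⁻¹) * b := by group
        _ = (a : G)⁻¹ * ((a : G) * u * (a : G)⁻¹) * b := by rw [h']
        _ = _ := by group
    · rintro ⟨v, h, hh, rfl⟩
      exact ⟨Quotient.mk _ ⟨h, hh⟩, rfl⟩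
  have hi : L.index = O.ncard := by
    rw [index_eq_card, Nat.card_congr (Equiv.ofBijective f hb), Nat.card_coe_set_eq]
  rw [← card_mul_index L, hi, mul_comm]
  congr 1
  refine Nat.card_congr
    { toFun := fun k => ⟨((k : H) : G), k.1.2, k.2⟩
      invFun := fun k => ⟨⟨(k : G), k.2.1⟩, k.2.2⟩
      left_inv := fun k => rfl
      right_inv := fun k => rfl }

variable {z : G} {P : Subgroup G} (F : Frame z P)

theorem co_class {x : G} (hx : x ∈ Rad z) {v : ℕ} (h : F.co x = v) :
    x = F.eE v * F.zp false ∨ x = F.eE v * F.zp true := by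
  subst h
  obtain ⟨p1, p2, -⟩ := F.eE_spec (F.co_lt x hx)
  rcases F.eq_or_eq_mul_z hx p1 p2.symm with e | e
  · exact Or.inl (e.trans (mul_one _).symm)
  · exact Or.inr e

theorem card_rad_le (Y : Subgroup G) (hY : Y ≤ Rad z) (L : List ℕ) (h : ∀ y ∈ Y, F.co y ∈ L) :
    Nat.card Y ≤ 2 * L.length := by
  classical
  let f : Y → Fin L.length × Bool := fun y =>
    (⟨L.idxOf (F.co y), List.idxOf_lt_length_iff.2 (h y y.2)⟩,
      decide ((y : G) = F.eE (F.co y) * F.zp true))
  have hf : Function.Injective f := by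
    intro a b e
    simp only [f, Prod.mk.injEq, Fin.mk.injEq, decide_eq_decide] at e
    have hco : F.co (a : G) = F.co b := by
      rw [← List.getElem_idxOf (List.idxOf_lt_length_iff.2 (h a a.2)),
        ← List.getElem_idxOf (List.idxOf_lt_length_iff.2 (h b b.2))]
      simp only [e.1]
    have e2 := e.2
    rw [hco] at e2
    rcases co_class F (hY a.2) hco with ea | ea <;> rcases co_class F (hY b.2) rfl with eb | eb
    · exact Subtype.ext (ea.trans eb.symm)
    · exact Subtype.ext ((e2.2 eb).trans eb.symm)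
    · exact Subtype.ext (ea.trans (e2.1 ea).symm)
    · exact Subtype.ext (ea.trans eb.symm)
  have := Nat.card_le_card_of_injective f hf
  simpa [mul_comm] using this

theorem le_card_rad (Y : Subgroup G) (L : List ℕ) (hn : L.Nodup) (hlt : ∀ v ∈ L, v < 4096)
    (h : ∀ y ∈ Rad z, F.co y ∈ L → y ∈ Y) : 2 * L.length ≤ Nat.card Y := by
  have hmem : ∀ i : Fin L.length, ∀ b, F.eE (L.get i) * F.zp b ∈ Y ∧
      F.co (F.eE (L.get i) * F.zp b) = L.get i := fun i b => by
    obtain ⟨p1, p2, -⟩ := F.eE_spec (hlt _ (L.get_mem i))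
    have e : F.co (F.eE (L.get i) * F.zp b) = L.get i := by
      rw [F.co_mul _ p1 _ (F.zp_mem b), F.co_zp, Nat.xor_zero]; exact p2
    exact ⟨h _ (mul_mem p1 (F.zp_mem b)) (by rw [e]; exact L.get_mem i), e⟩
  let f : Fin L.length × Bool → Y := fun i => ⟨_, (hmem i.1 i.2).1⟩
  have hf : Function.Injective f := by
    rintro ⟨i, b⟩ ⟨j, c⟩ e
    have e' : F.eE (L.get i) * F.zp b = F.eE (L.get j) * F.zp c := congrArg Subtype.val e
    have hij : i = j := by
      have h1 := (hmem i b).2
      rw [e', (hmem j c).2] at h1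
      exact List.nodup_iff_injective_get.1 hn h1.symm
    subst hij
    exact Prod.ext rfl (F.zp_inj (mul_left_cancel e'))
  have := Nat.card_le_card_of_injective f hf
  simpa [mul_comm] using this

namespace Setup

variable (S : Setup z P)

/-- The distinguished subgroup. -/
def K : Subgroup G where
  carrier := {x | x ∈ Rad z ∧ S.F.co x ∈ lineK}
  one_mem' := ⟨one_mem _, by rw [S.F.co_one]; decide⟩
  mul_mem' := by
    rintro a b ⟨ha, hca⟩ ⟨hb, hcb⟩
    refine ⟨mul_mem ha hb, ?_⟩
    rw [S.F.co_mul a ha b hb]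
    exact List.contains_iff_mem.1 (Bool.and_eq_true_iff.1
      (List.all_eq_true.1 (List.all_eq_true.1 lineK_ok.1 _ hca) _ hcb)).2
  inv_mem' := by
    rintro a ⟨ha, hca⟩
    exact ⟨inv_mem ha, by rwa [S.F.co_inv ha]⟩

theorem mem_K {x : G} : x ∈ S.K ↔ x ∈ Rad z ∧ S.F.co x ∈ lineK := Iff.rfl

theorem lineK_sub {v : ℕ} (h : v ∈ lineK) : v ∈ fix5 ∧ qF v = false := by
  have := Bool.and_eq_true_iff.1 (List.all_eq_true.1 lineK_ok.2.1 v h)
  exact ⟨List.contains_iff_mem.1 this.1, by simpa using this.2⟩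

theorem K_le_R : S.K ≤ S.R := fun _ hx => S.mem_R.2 ⟨hx.1, (lineK_sub hx.2).1⟩

theorem K_le_CX : S.K ≤ S.CX := S.K_le_R.trans S.R_le

theorem z_mem_K : z ∈ S.K := ⟨S.F.z_mem_rad, by rw [S.F.co_z]; decide⟩

theorem K_sq {x : G} (hx : x ∈ S.K) : x * x = 1 := by
  rw [S.F.sq x hx.1, (lineK_sub hx.2).2]; rfl

theorem K_comm {x y : G} (hx : x ∈ S.K) (hy : y ∈ S.K) : x * y = y * x := by
  have h := (Bool.and_eq_true_iff.1
    (List.all_eq_true.1 (List.all_eq_true.1 lineK_ok.1 _ hx.2) _ hy.2)).1
  rw [S.F.comm_rad hx.1 hy.1, show bF (S.F.co x) (S.F.co y) = false by simpa using h]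
  exact mul_one _

theorem card_K : Nat.card S.K = 8 :=
  le_antisymm (card_rad_le S.F S.K (fun _ h => h.1) lineK fun _ h => h.2)
    (le_card_rad S.F S.K lineK lineK_ok.2.2 (by decide) fun _ h h' => ⟨h, h'⟩)

theorem zType_K {x : G} (hx : x ∈ S.K) (h1 : x ≠ 1) : IsConj z x := by
  have h := hx.2
  simp only [lineK, List.mem_cons, List.not_mem_nil, or_false] at h
  rcases h with e | e | e | e
  · rcases (S.F.co_eq_zero x hx.1).1 e with e' | e'
    · exact absurd e' h1
    · exact e' ▸ IsConj.refl z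
  all_goals exact S.zType hx.1 (by rw [e]; decide)

/-- The involutions of `R` of the class of the central one lie in `K`. -/
theorem mem_K_of {x : G} (hx : x ∈ S.R) (h2 : x * x = 1) (h : x = 1 ∨ IsConj z x) : x ∈ S.K := by
  refine ⟨hx.1, ?_⟩
  rcases S.R_invol hx h2 with e | e | e
  · rw [e]; decide
  · simp only [lineZ, List.mem_cons, List.not_mem_nil, or_false] at e
    rcases e with e | e | e <;> rw [e] <;> decide
  · rcases h with h | h
    · rw [h, S.F.co_one]; decide
    · exact absurd h (S.bType hx.1 e).1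

theorem lineB_not_lineK : ∀ v ∈ lineB, v ∉ lineK := by decide

theorem R_conj {h x : G} (hh : h ∈ S.CX) (hx : x ∈ S.R) : h * x * h⁻¹ ∈ S.R :=
  ⟨S.F.rad_conj hh.1 hx.1, S.X.mul_mem (S.X.mul_mem hh.2 hx.2) (S.X.inv_mem hh.2)⟩

theorem K_conj {h x : G} (hh : h ∈ S.CX) (hx : x ∈ S.K) : h * x * h⁻¹ ∈ S.K := by
  refine S.mem_K_of (S.R_conj hh (S.K_le_R hx)) ?_ ?_
  · rw [show h * x * h⁻¹ * (h * x * h⁻¹) = h * (x * x) * h⁻¹ by group, S.K_sq hx]; group
  · rcases eq_or_ne x 1 with rfl | h1
    · exact Or.inl (by group)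
    · exact Or.inr ((S.zType_K hx h1).trans (isConj_iff.2 ⟨h, rfl⟩))

theorem cent_K_ge {u : G} (hu : u ∈ S.K) :
    160 ≤ Nat.card ↥(S.CX ⊓ centralizer ({u} : Set G)) := by
  have h := card_orbit_mul S.CX u
  rw [S.card_CX] at h
  have hle : ({v : G | ∃ h ∈ S.CX, h * u * h⁻¹ = v}).ncard ≤ 6 := by
    by_cases hz : u = 1 ∨ u = z
    · refine le_trans (Set.ncard_le_ncard (t := {u}) ?_ (Set.toFinite _)) (by simp)
      rintro v ⟨h, hh, rfl⟩
      rcases hz with rfl | rfl
      · simp
      · simp [mem_centralizer_singleton_iff.1 hh.1]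
    · push Not at hz
      have hsub : {v : G | ∃ h ∈ S.CX, h * u * h⁻¹ = v} ⊆ (S.K : Set G) \ {1, z} := by
        rintro v ⟨h, hh, rfl⟩
        refine ⟨S.K_conj hh hu, ?_⟩
        rintro (e | e)
        · exact hz.1 (conj_eq_one_iff.1 e)
        · refine hz.2 (mul_left_cancel (a := h) ?_)
          rw [mem_centralizer_singleton_iff.1 hh.1, ← mul_inv_eq_iff_eq_mul]
          exact e
      refine le_trans (Set.ncard_le_ncard hsub (Set.toFinite _)) ?_
      rw [Set.ncard_sdiff (by
        rintro v (rfl | rfl)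
        · exact one_mem _
        · exact S.z_mem_K), Set.ncard_pair S.F.z_ne.symm, ← Nat.card_coe_set_eq,
        SetLike.coe_sort_coe, S.card_K]
  have := Nat.mul_le_mul_right (Nat.card ↥(S.CX ⊓ centralizer ({u} : Set G))) hle
  omega

/-- An involution outside the inner part has a small centraliser. -/
theorem cent_outer {v : G} (hv : v ∈ S.CX) (h2 : v * v = 1)
    (hout : S.F.mat v ∉ spread pows5) :
    Nat.card ↥(S.CX ⊓ centralizer ({v} : Set G)) ≤ 80 := by
  classical
  set Y : Subgroup G := S.CX ⊓ centralizer ({v} : Set G)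
  have hc := S.mem_spread hv
  have hmm : Three.eqM (mm (S.F.mat v) (S.F.mat v)) idM = true := by
    rw [← S.F.mat_mul v hv.1 v hv.1, h2, S.F.mat_one]; exact Three.eqM_refl _
  have hno : (spread pows5).any (Three.eqM (S.F.mat v)) = false := by
    rw [Bool.eq_false_iff]
    intro h
    obtain ⟨d, hd, e⟩ := List.any_eq_true.1 h
    exact hout (Three.eqM_sound e ▸ hd)
  have h10 := List.all_eq_true.1 outer_cent_ok _ hc
  rw [hno, hmm] at h10
  simp only [Bool.not_true, Bool.false_or] at h10
  have h4 := List.all_eq_true.1 outer_fix_ok _ hc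
  rw [hno, Bool.false_or] at h4
  let φ : Y →* Cert.LGrp := S.matHom.comp (Subgroup.inclusion inf_le_left)
  have hker : Nat.card φ.ker ≤ 8 := by
    rw [← card_map_of_injective Y.subtype_injective]
    refine le_trans (card_rad_le S.F _ ?_ (fix5.filter fun w => Nat.beq (mv (S.F.mat v) w) w) ?_)
      (by have := Nat.le_of_ble_eq_true h4; omega)
    · rintro _ ⟨y, hy, rfl⟩
      exact (S.mem_R_of_mat y.2.1 (congrArg (fun m : Cert.LGrp => m.1) (MonoidHom.mem_ker.1 hy))).1
    · rintro _ ⟨y, hy, rfl⟩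
      obtain ⟨hr, hf⟩ := S.mem_R.1 (S.mem_R_of_mat y.2.1 (congrArg (fun m : Cert.LGrp => m.1) (MonoidHom.mem_ker.1 hy)))
      refine List.mem_filter.2 ⟨hf, ?_⟩
      have e := S.F.conj_co hv.1 hr
      rw [← mem_centralizer_singleton_iff.1 y.2.2, mul_inv_cancel_right] at e
      show Nat.beq (mv (S.F.mat v) (S.F.co (y : G))) (S.F.co (y : G)) = true
      rw [← e]
      exact Nat.beq_refl _
  have hrange : Nat.card φ.range ≤ 10 := by
    set L := (spread reps5).filter fun d => Three.eqM (mm (S.F.mat v) d) (mm d (S.F.mat v))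
    let f : φ.range → {d // d ∈ L} := fun c => ⟨c.1.1, by
      obtain ⟨y, e⟩ := c.2
      rw [← e]
      refine List.mem_filter.2 ⟨S.mem_spread y.2.1, ?_⟩
      show Three.eqM (mm (S.F.mat v) (S.F.mat (y : G))) (mm (S.F.mat (y : G)) (S.F.mat v)) = true
      rw [← S.F.mat_mul v hv.1 _ y.2.1.1, ← S.F.mat_mul _ y.2.1.1 v hv.1,
        mem_centralizer_singleton_iff.1 y.2.2]
      exact Three.eqM_refl _⟩
    have hf : Function.Injective f := fun a b e =>
      Subtype.ext (Subtype.ext (congrArg (fun c : {d // d ∈ L} => c.1) e))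
    refine le_trans (Nat.card_le_card_of_injective f hf) ?_
    have := Fintype.ofFinite {d // d ∈ L}
    rw [Nat.card_eq_fintype_card, Fintype.card_of_subtype L.toFinset (by simp)]
    exact le_trans (List.toFinset_card_le L) (Nat.le_of_ble_eq_true h10)
  rw [← card_mul_index φ.ker, index_ker]
  exact Nat.mul_le_mul hker hrange

/-- A conjugate of the involution with a large centraliser lies in `K`. -/
theorem mem_K_of_big {v : G} (hv : v ∈ S.CX) (h : IsConj z v)
    (hbig : 80 < Nat.card ↥(S.CX ⊓ centralizer ({v} : Set G))) : v ∈ S.K := by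
  have h2 : v * v = 1 := by
    obtain ⟨g, rfl⟩ := isConj_iff.1 h
    rw [show g * z * g⁻¹ * (g * z * g⁻¹) = g * (z * z) * g⁻¹ by group, S.F.z_mul_z]; group
  by_cases hin : S.F.mat v ∈ spread pows5
  · have h' := List.all_eq_true.1 inner_sq_ok _ hin
    rw [← S.F.mat_mul v hv.1 v hv.1, h2, S.F.mat_one, Three.eqM_refl, Bool.not_true,
      Bool.false_or] at h'
    exact S.mem_K_of (S.mem_R_of_mat hv (Three.eqM_sound h')) h2 (Or.inr h)
  · exact absurd (S.cent_outer hv h2 hin) (not_le.2 hbig)

end Setup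

end CfsgLib.J4Type.Five
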