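import Cfsg.Agent.Lib.J4Type.Five.Canon
import Cfsg.Agent.Lib.Recog.QSThree.ClosedLeg

/-!
The centraliser of the element of order five has order 6720 and normalises the distinguished
subgroup of order eight.
-/

set_option autoImplicit false
set_option linter.unusedSectionVars false
set_option maxRecDepth 100000

namespace CfsgLib.J4Type.Five

open Cfsg Subgroup Local57

theorem pows_spread : (pows5.all fun c => (spread pows5).contains c) = true ∧
    ((List.range 5).all fun i =>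
      Three.eqM (List.foldr mm idM (List.replicate i m5)) (pows5.getD i idM)) = true ∧
    pows5.length = 5 := by
  decide +kernel

variable {G : Type*} [Group G] [Finite G] {z : G} {P : Subgroup G}

namespace Setup

variable (S : Setup z P)

/-- The normaliser of the distinguished subgroup. -/
def N : Subgroup G := S.X ⊓ normalizer (S.K : Set G)

theorem mem_N_of_forward {g : G} (hg : g ∈ S.X) (h : ∀ k ∈ S.K, g * k * g⁻¹ ∈ S.K) : g ∈ S.N := by
  refine ⟨hg, mem_normalizer_iff.2 fun k => ⟨h k, fun hk => ?_⟩⟩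
  have hmap : S.K.map (MulAut.conj g).toMonoidHom = S.K := by
    refine eq_of_le_of_card_ge ?_ ?_
    · rintro _ ⟨a, ha, rfl⟩
      exact h a ha
    · rw [Subgroup.card_map_of_injective (MulAut.conj g).injective]
  rw [← hmap] at hk
  obtain ⟨a, ha, e⟩ := hk
  have : a = k := (MulAut.conj g).injective e
  exact this ▸ ha

theorem mem_N_of_mover {g : G} (hg : g ∈ S.X) (h : g * z * g⁻¹ ∈ S.K) : g ∈ S.N :=
  S.mem_N_of_forward hg (S.K_mover hg h)

theorem CX_le_N : S.CX ≤ S.N := fun _ h => S.mem_N_of_forward h.2 fun _ hk => S.K_conj h hk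

theorem N_conj {g k : G} (hg : g ∈ S.N) (hk : k ∈ S.K) : g * k * g⁻¹ ∈ S.K :=
  (mem_normalizer_iff.1 hg.2 k).1 hk

theorem exists_moverK {u : G} (hu : u ∈ S.K) (h1 : u ≠ 1) : ∃ g ∈ S.N, g * z * g⁻¹ = u := by
  obtain ⟨g, hg, e⟩ := S.exists_mover (S.K_le_CX hu).2 (S.zType_K hu h1)
  exact ⟨g, S.mem_N_of_mover hg (by rw [e]; exact hu), e⟩

theorem cent_K_le {k : G} (hk : k ∈ S.K) (h1 : k ≠ 1) :
    S.X ⊓ centralizer ({k} : Set G) ≤ S.N := by
  obtain ⟨g, hg, rfl⟩ := S.exists_moverK hk h1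
  rintro h ⟨hX, hc⟩
  replace hc := mem_centralizer_singleton_iff.1 hc
  have hc' : g⁻¹ * h * g ∈ S.CX := by
    refine ⟨mem_centralizer_singleton_iff.2 ?_,
      S.X.mul_mem (S.X.mul_mem (S.X.inv_mem hg.1) hX) hg.1⟩
    calc g⁻¹ * h * g * z = g⁻¹ * (h * (g * z * g⁻¹)) * g := by group
      _ = g⁻¹ * (g * z * g⁻¹ * h) * g := by rw [hc]
      _ = _ := by group
  have := S.N.mul_mem (S.N.mul_mem hg (S.CX_le_N hc')) (S.N.inv_mem hg)
  rwa [show g * (g⁻¹ * h * g) * g⁻¹ = h by group] at this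

theorem q_pow_mat {i : ℕ} (hi : i < 5) : S.F.mat (S.q ^ i) = pows5.getD i idM := by
  rw [← Three.eqM_sound (List.all_eq_true.1 pows_spread.2.1 i (List.mem_range.2 hi))]
  clear hi
  induction i with
  | zero => simpa using S.F.mat_one
  | succ i ih =>
    rw [pow_succ', S.F.mat_mul _ S.q_mem.1 _ (pow_mem S.q_mem.1 i), ih, S.q_mat,
      List.replicate_succ, List.foldr_cons]

/-- The centraliser of the distinguished subgroup. -/
theorem cent_K {h : G} (hX : h ∈ S.X) (hc : ∀ k ∈ S.K, h * k = k * h) :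
    ∃ i < 5, ∃ k ∈ S.K, h = S.q ^ i * k := by
  have hCX : h ∈ S.CX := ⟨mem_centralizer_singleton_iff.2 (hc z S.z_mem_K), hX⟩
  have hfix : ∀ v ∈ lineZ, mv (S.F.mat h) v = v := by
    intro v hv
    have hv' : v ∈ lineK := List.mem_cons_of_mem _ hv
    obtain ⟨p1, p2, -⟩ := S.F.eE_spec (fix5_lt v (lineK_sub hv').1)
    have e := S.F.conj_co hCX.1 p1
    rw [hc _ ⟨p1, by rw [p2]; exact hv'⟩, mul_inv_cancel_right, p2] at e
    exact e.symm
  have hpw := List.all_eq_true.1 pointwise_ok _ (S.mem_spread hCX)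
  rw [Bool.or_eq_true] at hpw
  rcases hpw with e | e
  swap
  · obtain ⟨v, hv, e'⟩ := List.any_eq_true.1 e
    rw [hfix v hv, Nat.beq_refl] at e'
    exact Bool.noConfusion e'
  obtain ⟨c, hc', e'⟩ := List.any_eq_true.1 e
  obtain ⟨i, hi, ei⟩ := List.getElem_of_mem hc'
  have hi5 : i < 5 := pows_spread.2.2 ▸ hi
  have hm : S.F.mat h = S.F.mat (S.q ^ i) := by
    rw [Three.eqM_sound e', S.q_pow_mat hi5, List.getD_eq_getElem _ _ hi, ei]
  have hq : S.q ^ i ∈ S.CX := pow_mem S.q_mem_CX i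
  have hr : (S.q ^ i)⁻¹ * h ∈ S.R := S.mem_R_of_mat (S.CX.mul_mem (S.CX.inv_mem hq) hCX) (by
    rw [S.F.mat_mul _ (inv_mem hq.1) _ hCX.1, hm, ← S.F.mat_mul _ (inv_mem hq.1) _ hq.1,
      inv_mul_cancel, S.F.mat_one])
  refine ⟨i, hi5, _, ⟨hr.1, ?_⟩, (mul_inv_cancel_left _ h).symm⟩
  obtain ⟨-, hf⟩ := S.mem_R.1 hr
  have hp := List.all_eq_true.1 perp_ok _ hf
  simp only [Bool.or_eq_true] at hp
  rcases hp with (e | e) | e
  · rw [Nat.eq_of_beq_eq_true e]; decide
  · exact List.mem_cons_of_mem _ (List.contains_iff_mem.1 e)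
  · exfalso
    obtain ⟨w, hw, hb⟩ := List.any_eq_true.1 e
    obtain ⟨p1, p2, -⟩ := S.F.eE_spec (fix5_lt w (lineK_sub (List.mem_cons_of_mem _ hw)).1)
    have hk : S.F.eE w ∈ S.K := ⟨p1, by rw [p2]; exact List.mem_cons_of_mem _ hw⟩
    have hqk : S.q * S.F.eE w = S.F.eE w * S.q := (S.mem_X.1 (S.K_le_CX hk).2).symm
    have hcomm : (S.q ^ i)⁻¹ * h * S.F.eE w = S.F.eE w * ((S.q ^ i)⁻¹ * h) := by
      rw [mul_assoc, hc _ hk, ← mul_assoc, ← mul_assoc,
        ((show Commute S.q (S.F.eE w) from hqk).pow_left i).inv_left.eq]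
    have h1 := S.F.comm_rad hr.1 p1
    rw [hcomm, p2, hb, if_pos rfl] at h1
    exact S.F.z_ne (left_eq_mul.1 h1)

/-- An involution of the normaliser outside the distinguished subgroup moves into `R`. -/
theorem invol_N {x : G} (hx : x ∈ S.N) (h2 : x * x = 1) (hK : x ∉ S.K) :
    ∃ n ∈ S.N, n * x * n⁻¹ ∈ S.R ∧ S.F.co (n * x * n⁻¹) ∈ lineB := by
  have hinv : x⁻¹ = x := inv_eq_of_mul_eq_one_right h2
  have hn : ∀ w ∈ S.K, x * w * x ∈ S.K := fun w hw => by
    have := S.N_conj hx hw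
    rwa [hinv] at this
  have hmove : ∃ w ∈ S.K, x * w * x ≠ w := by
    by_contra hcon
    push Not at hcon
    obtain ⟨i, hi, k, hk, e⟩ := S.cent_K hx.1 fun k hk => by
      calc x * k = x * k * (x * x) := by rw [h2, mul_one]
        _ = x * k * x * x := by group
        _ = k * x := by rw [hcon k hk]
    have hqk : Commute (S.q ^ i) k := ((show Commute S.q k from
      (S.mem_X.1 (S.K_le_CX hk).2).symm)).pow_left i
    have : S.q ^ (2 * i) = 1 := by
      rw [e] at h2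
      calc S.q ^ (2 * i) = S.q ^ i * S.q ^ i * (k * k) := by rw [S.K_sq hk, mul_one, two_mul, pow_add]
        _ = S.q ^ i * (S.q ^ i * k) * k := by group
        _ = S.q ^ i * (k * S.q ^ i) * k := by rw [hqk.eq]
        _ = 1 := by rw [← h2]; group
    have hd := orderOf_dvd_of_pow_eq_one this
    rw [S.q_order] at hd
    have : i = 0 := by omega
    subst this
    rw [pow_zero, one_mul] at e
    exact hK (e ▸ hk)
  obtain ⟨-, v, hv, hv1, -, hall⟩ := Recog.QSThree.four_fixed S.card_K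
    (fun a ha b hb => S.K_comm ha hb) (fun a ha => S.K_sq ha) h2 hn hmove
  obtain ⟨g, hg, hgv⟩ := S.exists_moverK hv hv1
  set y := g⁻¹ * x * g⁻¹⁻¹ with hy
  have hyN : y ∈ S.N := S.N.mul_mem (S.N.mul_mem (S.N.inv_mem hg) hx) (S.N.inv_mem (S.N.inv_mem hg))
  have hy2 : y * y = 1 := by
    rw [hy, show g⁻¹ * x * g⁻¹⁻¹ * (g⁻¹ * x * g⁻¹⁻¹) = g⁻¹ * (x * x) * g⁻¹⁻¹ by group, h2]; group
  have hyv : ∀ k ∈ S.K, k * (y * k * y) = 1 ∨ k * (y * k * y) = z := by
    intro k hk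
    rcases hall _ (S.N_conj hg hk) with e | e
    · left
      calc k * (y * k * y) = g⁻¹ * ((g * k * g⁻¹) * (x * (g * k * g⁻¹) * x)) * g := by rw [hy]; group
        _ = 1 := by rw [e]; group
    · right
      calc k * (y * k * y) = g⁻¹ * ((g * k * g⁻¹) * (x * (g * k * g⁻¹) * x)) * g := by rw [hy]; group
        _ = z := by rw [e, ← hgv]; group
  have hyz : y ∈ Cen z := by
    refine mem_centralizer_singleton_iff.2 ?_
    rcases hyv z S.z_mem_K with e | e
    · have e' : y * z * y = z := (eq_inv_of_mul_eq_one_right e).trans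
        (inv_eq_of_mul_eq_one_right S.F.z_mul_z)
      calc y * z = y * z * (y * y) := by rw [hy2, mul_one]
        _ = y * z * y * y := by group
        _ = z * y := by rw [e']
    · exfalso
      have e1 : y * z * y = 1 := by
        have := congrArg (fun t => z * t) e
        simpa [← mul_assoc, S.F.z_mul_z] using this
      refine S.F.z_ne ?_
      calc z = y * y * z * (y * y) := by rw [hy2]; group
        _ = y * (y * z * y) * y := by group
        _ = 1 := by rw [e1, mul_one, hy2]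
  have hyCX : y ∈ S.CX := ⟨hyz, hyN.1⟩
  have hfix : ∀ v ∈ lineZ, mv (S.F.mat y) v = v := by
    intro v hv
    have hv' : v ∈ lineK := List.mem_cons_of_mem _ hv
    obtain ⟨p1, p2, -⟩ := S.F.eE_spec (fix5_lt v (lineK_sub hv').1)
    have hk : S.F.eE v ∈ S.K := ⟨p1, by rw [p2]; exact hv'⟩
    have hinvy : y⁻¹ = y := inv_eq_of_mul_eq_one_right hy2
    have hc := S.F.conj_co hyz p1
    rw [p2, hinvy] at hc
    rw [← hc]
    rcases hyv _ hk with e | e
    · rw [show y * S.F.eE v * y = (S.F.eE v)⁻¹ from eq_inv_of_mul_eq_one_right e,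
        S.F.co_inv p1, p2]
    · have e2 : y * S.F.eE v * y = (S.F.eE v)⁻¹ * z :=
        (inv_mul_cancel_left (S.F.eE v) _).symm.trans (congrArg ((S.F.eE v)⁻¹ * ·) e)
      rw [e2, S.F.co_mul_z (inv_mem p1), S.F.co_inv p1, p2]
  have hpw := List.all_eq_true.1 pointwise_ok _ (S.mem_spread hyCX)
  rw [Bool.or_eq_true] at hpw
  rcases hpw with e | e
  swap
  · obtain ⟨v, hv, e'⟩ := List.any_eq_true.1 e
    rw [hfix v hv, Nat.beq_refl] at e'
    exact Bool.noConfusion e'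
  obtain ⟨c, hc', e'⟩ := List.any_eq_true.1 e
  have hsp : S.F.mat y ∈ spread pows5 :=
    Three.eqM_sound e' ▸ List.contains_iff_mem.1 (List.all_eq_true.1 pows_spread.1 c hc')
  have hsq := List.all_eq_true.1 inner_sq_ok _ hsp
  rw [← S.F.mat_mul y hyz y hyz, hy2, S.F.mat_one, Three.eqM_refl, Bool.not_true,
    Bool.false_or] at hsq
  have hyR := S.mem_R_of_mat hyCX (Three.eqM_sound hsq)
  have hyK : y ∉ S.K := fun h => hK (by
    have := S.N_conj hg h
    rwa [show g * y * g⁻¹ = x by rw [hy]; group] at this)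
  refine ⟨g⁻¹, S.N.inv_mem hg, hyR, ?_⟩
  rcases S.R_invol hyR hy2 with e | e | e
  · exact absurd ⟨hyR.1, by rw [e]; decide⟩ hyK
  · exact absurd (S.mem_K_of hyR hy2 (Or.inr (S.zType hyR.1 e))) hyK
  · exact e

/-- The centraliser of an element over the long orbit. -/
theorem cent_lineB {x : G} (hx : x ∈ S.R) (hc : S.F.co x ∈ lineB) :
    S.X ⊓ centralizer ({x} : Set G) ≤ S.CX ∧
    Nat.card ↥(S.X ⊓ centralizer ({x} : Set G)) ≤ 80 := by
  have hle : S.X ⊓ centralizer ({x} : Set G) ≤ S.CX := fun g hg =>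
    ⟨mem_centralizer_singleton_iff.2 (mul_inv_eq_iff_eq_mul.1
      (S.btype_center hx hx hc hc hg.1 (mul_inv_eq_iff_eq_mul.2 (mem_centralizer_singleton_iff.1 hg.2)))),
      hg.1⟩
  refine ⟨hle, ?_⟩
  have h := card_orbit_mul S.CX x
  rw [S.card_CX] at h
  set O := {v : G | ∃ h ∈ S.CX, h * x * h⁻¹ = v} with hO
  -- all elements over the long orbit are in one orbit
  have horb : ∀ y ∈ S.R, S.F.co y ∈ lineB → y ∈ O := by
    intro y hy hcy
    obtain ⟨-, l, hl, hl1, hlR⟩ := S.bType hy.1 hcy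
    obtain ⟨-, m, hm, hm1, hmR⟩ := S.bType hx.1 hc
    obtain ⟨d, hd, hdc⟩ : ∃ d ∈ S.CX, d * (m⁻¹ * x * m) * d⁻¹ = l⁻¹ * y * l := by
      rcases S.F.eq_or_eq_mul_z hlR.1 hmR.1 (hl1.trans hm1.symm) with e | e
      · exact ⟨1, one_mem _, by rw [e]; group⟩
      · obtain ⟨w, hw, hb⟩ : ∃ w ∈ fix5, bF w 1 = true := by decide +kernel
        obtain ⟨p1, p2, -⟩ := S.F.eE_spec (fix5_lt w hw)
        refine ⟨S.F.eE w, S.R_le (S.mem_R.2 ⟨p1, by rw [p2]; exact hw⟩), ?_⟩
        have h1 := S.F.comm_rad p1 hmR.1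
        rw [p2, hm1, hb, if_pos rfl] at h1
        rw [e, h1, mul_assoc _ z, ← S.F.z_comm (inv_mem (rad_le_Cen p1))]
        group
    refine ⟨l * d * m⁻¹, S.CX.mul_mem (S.CX.mul_mem hl hd) (S.CX.inv_mem hm), ?_⟩
    rw [show l * d * m⁻¹ * x * (l * d * m⁻¹)⁻¹ = l * (d * (m⁻¹ * x * m) * d⁻¹) * l⁻¹ by group, hdc]
    group
  have h12 : 12 ≤ O.ncard := by
    have hlen : lineB.length = 6 ∧ lineB.Nodup ∧ ∀ v ∈ lineB, v ∈ fix5 := by decide
    have hmem : ∀ i : Fin lineB.length, ∀ b, S.F.eE (lineB.get i) * S.F.zp b ∈ O ∧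
        S.F.co (S.F.eE (lineB.get i) * S.F.zp b) = lineB.get i := fun i b => by
      obtain ⟨p1, p2, -⟩ := S.F.eE_spec (fix5_lt _ (hlen.2.2 _ (lineB.get_mem i)))
      have e : S.F.co (S.F.eE (lineB.get i) * S.F.zp b) = lineB.get i := by
        rw [S.F.co_mul _ p1 _ (S.F.zp_mem b), S.F.co_zp, Nat.xor_zero]; exact p2
      refine ⟨horb _ (S.mem_R.2 ⟨mul_mem p1 (S.F.zp_mem b), ?_⟩) (by rw [e]; exact lineB.get_mem i), e⟩
      rw [e]; exact hlen.2.2 _ (lineB.get_mem i)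
    let f : Fin lineB.length × Bool → O := fun i => ⟨_, (hmem i.1 i.2).1⟩
    have hf : Function.Injective f := by
      rintro ⟨i, b⟩ ⟨j, c⟩ e
      have e' : S.F.eE (lineB.get i) * S.F.zp b = S.F.eE (lineB.get j) * S.F.zp c :=
        congrArg Subtype.val e
      have hij : i = j := by
        have h1 := (hmem i b).2
        rw [e', (hmem j c).2] at h1
        exact List.nodup_iff_injective_get.1 hlen.2.1 h1.symm
      subst hij
      exact Prod.ext rfl (S.F.zp_inj (mul_left_cancel e'))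
    have := Nat.card_le_card_of_injective f hf
    rw [Nat.card_coe_set_eq, Nat.card_prod, Nat.card_fin, Nat.card_eq_fintype_card (α := Bool),
      Fintype.card_bool, hlen.1] at this
    exact this
  have he : S.X ⊓ centralizer ({x} : Set G) = S.CX ⊓ centralizer ({x} : Set G) :=
    le_antisymm (le_inf hle inf_le_right) (inf_le_inf_right _ inf_le_right)
  rw [he]
  have := Nat.mul_le_mul_right (Nat.card ↥(S.CX ⊓ centralizer ({x} : Set G))) h12
  omega

/-- The centraliser of an involution outside the distinguished subgroup. -/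
theorem cent_outside {x : G} (hx : x ∈ S.N) (h2 : x * x = 1) (hK : x ∉ S.K) :
    ¬ IsConj z x ∧ S.X ⊓ centralizer ({x} : Set G) ≤ S.N ∧
    Nat.card ↥(S.X ⊓ centralizer ({x} : Set G)) ≤ 80 := by
  obtain ⟨n, hn, hR, hc⟩ := S.invol_N hx h2 hK
  obtain ⟨hle, hcard⟩ := S.cent_lineB hR hc
  have key : ∀ g ∈ S.X ⊓ centralizer ({x} : Set G),
      n * g * n⁻¹ ∈ S.X ⊓ centralizer ({n * x * n⁻¹} : Set G) := by
    rintro g ⟨hg, hgc⟩
    refine ⟨S.X.mul_mem (S.X.mul_mem hn.1 hg) (S.X.inv_mem hn.1), mem_centralizer_singleton_iff.2 ?_⟩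
    calc n * g * n⁻¹ * (n * x * n⁻¹) = n * (g * x) * n⁻¹ := by group
      _ = n * (x * g) * n⁻¹ := by rw [mem_centralizer_singleton_iff.1 hgc]
      _ = _ := by group
  refine ⟨fun h => (S.bType hR.1 hc).1 (h.trans (isConj_iff.2 ⟨n, rfl⟩)), fun g hg => ?_, ?_⟩
  · have := S.N.mul_mem (S.N.mul_mem (S.N.inv_mem hn) (S.CX_le_N (hle (key g hg)))) hn
    rwa [show n⁻¹ * (n * g * n⁻¹) * n = g by group] at this
  · refine le_trans (Nat.card_le_card_of_injective
      (fun g : ↥(S.X ⊓ centralizer ({x} : Set G)) =>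
        (⟨n * g * n⁻¹, key g g.2⟩ : ↥(S.X ⊓ centralizer ({n * x * n⁻¹} : Set G)))) ?_) hcard
    intro a b e
    exact Subtype.ext (mul_left_cancel (mul_right_cancel (congrArg Subtype.val e)))

/-- Every conjugate of the involution centralising `q` lies in the distinguished subgroup. -/
theorem ztype_mem_K {u : G} (hu : u ∈ S.X) (h : IsConj z u) : u ∈ S.K := by
  have hu2 : u * u = 1 := by
    obtain ⟨g, rfl⟩ := isConj_iff.1 h
    rw [show g * z * g⁻¹ * (g * z * g⁻¹) = g * (z * z) * g⁻¹ by group, S.F.z_mul_z]; group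
  by_contra hK
  have hN : u ∉ S.N := fun hN => (S.cent_outside hN hu2 hK).1 h
  have hu1 : u ≠ 1 := fun e => hK (e ▸ one_mem _)
  obtain ⟨p1, p2, -⟩ := S.F.eE_spec (show (1 : ℕ) < 4096 by norm_num)
  have hbR : S.F.eE 1 ∈ S.R := S.mem_R.2 ⟨p1, by rw [p2]; decide⟩
  obtain ⟨-, hb1, hb⟩ := S.pairV_of_one hbR p2
  have hb2 : S.F.eE 1 * S.F.eE 1 = 1 := by
    rw [S.F.sq _ p1, p2, show qF 1 = false by decide +kernel]; rfl
  have ho : ∀ {x : G} (hx : x ∈ S.X), x * x = 1 → x ≠ 1 → orderOf (⟨x, hx⟩ : S.X) = 2 :=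
    fun hx h2 h1 => (Subgroup.orderOf_mk _ hx).trans (Invol.invol_of_mul_self h2 h1)
  obtain ⟨k, hk, hku, hkb⟩ := Recog.QSThree.exists_common (ho hu hu2 hu1)
    (ho hbR.2 hb2 hb1) (fun hconj => hb (h.trans (MonoidHom.map_isConj S.X.subtype hconj)))
  have hk2 : (k : G) * k = 1 := congrArg Subtype.val (Invol.invol_mul_self hk)
  have hk1 : (k : G) ≠ 1 := fun e => Invol.invol_ne_one hk (Subtype.ext e)
  have hkN : (k : G) ∈ S.N := S.CX_le_N ((S.cent_lineB hbR (by rw [p2]; decide)).1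
    ⟨k.2, mem_centralizer_singleton_iff.2 (congrArg Subtype.val hkb)⟩)
  have huk : u * (k : G) = k * u := (congrArg Subtype.val hku).symm
  refine hN ?_
  by_cases hkK : (k : G) ∈ S.K
  · exact S.cent_K_le hkK hk1 ⟨hu, mem_centralizer_singleton_iff.2 huk⟩
  · exact (S.cent_outside hkN hk2 hkK).2.1 ⟨hu, mem_centralizer_singleton_iff.2 huk⟩

theorem X_eq_N : S.X = S.N := by
  refine le_antisymm (fun g hg => ?_) inf_le_left
  refine S.mem_N_of_mover hg (S.ztype_mem_K ?_ (isConj_iff.2 ⟨g, rfl⟩))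
  exact S.X.mul_mem (S.X.mul_mem hg S.z_mem_CX.2) (S.X.inv_mem hg)

theorem K_normal {g k : G} (hg : g ∈ S.X) (hk : k ∈ S.K) : g * k * g⁻¹ ∈ S.K :=
  S.N_conj (S.X_eq_N ▸ hg) hk

theorem card_X : Nat.card S.X = 6720 := by
  rw [card_orbit_mul S.X z,
    show S.X ⊓ centralizer ({z} : Set G) = S.CX from inf_comm _ _, S.card_CX]
  have : {v : G | ∃ h ∈ S.X, h * z * h⁻¹ = v} = (S.K : Set G) \ {1} := by
    ext v
    constructor
    · rintro ⟨h, hh, rfl⟩
      exact ⟨S.K_normal hh S.z_mem_K, fun e => S.F.z_ne (conj_eq_one_iff.1 e)⟩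
    · rintro ⟨hv, h1⟩
      obtain ⟨g, hg, e⟩ := S.exists_moverK hv h1
      exact ⟨g, hg.1, e⟩
  rw [this, Set.ncard_sdiff_singleton_of_mem (one_mem S.K), ← Nat.card_coe_set_eq,
    SetLike.coe_sort_coe, S.card_K]

end Setup

end CfsgLib.J4Type.Five
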