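import Cfsg.Agent.Lib.J4Type.Five.Data
import Cfsg.Agent.Lib.J4Type.NV.Pairs276

/-!
The centraliser of an element of order five in the centraliser of the involution.
-/

set_option autoImplicit false
set_option linter.unusedSectionVars false
set_option maxRecDepth 100000

namespace CfsgLib.J4Type.Five

open Cfsg Subgroup Local57

variable {G : Type*} [Group G] [Finite G] {z : G} {P : Subgroup G}

/-- An element of order five of the centraliser of `P` in given coordinates. -/
structure Setup (z : G) (P : Subgroup G) where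
  /-- The coordinates. -/
  F : Frame z P
  /-- The group of order `2 ^ 11`. -/
  D : VData F
  fused : Fused D
  /-- The element of order five. -/
  q : G
  q_mem : q ∈ CP z P
  q_order : orderOf q = 5
  q_mat : F.mat q = m5

theorem exists_setup (F : Frame z P) (D : VData F) (hf : Fused D) : Nonempty (Setup z P) := by
  have hck := cent_ok
  simp only [centCheck, Bool.and_eq_true, List.all_eq_true] at hck
  have hne : m5 ≠ idM := by decide +kernel
  obtain ⟨q, hq, ho, hm⟩ := exists_gen F inL_m5 (Three.eqM_sound hck.2) (p := 5) (by norm_num)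
    (by decide) (Three.eqM_sound hck.1.2) hne
  exact ⟨⟨F, D, hf, q, hq, ho, hm⟩⟩

namespace Setup

variable (S : Setup z P)

/-- The centraliser of the element of order five. -/
def X : Subgroup G := centralizer ({S.q} : Set G)

/-- Its part centralising the involution. -/
def CX : Subgroup G := Cen z ⊓ S.X

theorem mem_X {g : G} : g ∈ S.X ↔ g * S.q = S.q * g := mem_centralizer_singleton_iff

theorem q_mem_X : S.q ∈ S.X := S.mem_X.2 rfl

theorem q_mem_CX : S.q ∈ S.CX := ⟨S.q_mem.1, S.q_mem_X⟩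

theorem q_odd : Odd (orderOf S.q) := by rw [S.q_order]; decide

theorem z_mem_CX : z ∈ S.CX := ⟨S.F.z_mem_cen, S.mem_X.2 (S.F.z_comm S.q_mem.1).symm⟩

theorem fix_iff {v : ℕ} (hv : v < 4096) : mv m5 v = v ↔ v ∈ fix5 := by
  have h := List.all_eq_true.1 fix_ok v (List.mem_range.2 hv)
  rw [beq_iff_eq] at h
  constructor
  · intro e
    rw [e, Nat.beq_refl] at h
    exact List.contains_iff_mem.1 h.symm
  · intro e
    rw [List.contains_iff_mem.2 e] at h
    exact Nat.eq_of_beq_eq_true h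

/-- Which elements of the radical commute with `q`. -/
theorem rad_mem_X {x : G} (hx : x ∈ Rad z) : x ∈ S.X ↔ S.F.co x ∈ fix5 := by
  rw [← fix_iff (S.F.co_lt x hx), ← S.q_mat, ← S.F.conj_co S.q_mem.1 hx, mem_X]
  constructor
  · intro h
    rw [← h, mul_inv_cancel_right]
  · intro h
    rcases S.F.eq_or_eq_mul_z (S.F.rad_conj S.q_mem.1 hx) hx h with e | e
    · exact (mul_inv_eq_iff_eq_mul.1 e).symm
    · exfalso
      have zq : z * S.q = S.q * z := (S.F.z_comm S.q_mem.1).symm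
      have h2 : Commute (S.q ^ 2) x := by
        show S.q ^ 2 * x = x * S.q ^ 2
        have e' : S.q * x = x * z * S.q := by rw [← e]; group
        calc S.q ^ 2 * x = S.q * (S.q * x) := by rw [pow_two]; group
          _ = S.q * x * (z * S.q) := by conv_lhs => rw [e']
                                        group
          _ = x * z * S.q * (z * S.q) := by rw [e']
          _ = x * (z * (S.q * z)) * S.q := by group
          _ = x * (z * z) * (S.q * S.q) := by rw [← zq]; group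
          _ = x * S.q ^ 2 := by rw [S.F.z_mul_z, mul_one, pow_two]
      have h5 : S.q ^ 5 = 1 := by rw [← S.q_order]; exact pow_orderOf_eq_one _
      have h6 : Commute S.q x := by
        have h3 := h2.pow_left 3
        rwa [← pow_mul, show 2 * 3 = 5 + 1 from rfl, pow_succ, h5, one_mul] at h3
      rw [h6.eq, mul_inv_cancel_right] at e
      exact S.F.z_ne (left_eq_mul.1 e)

/-- The matrices in the centraliser. -/
theorem mem_spread {h : G} (hh : h ∈ S.CX) : S.F.mat h ∈ spread reps5 :=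
  mat_mem_spread S.F S.q_mem (Or.inl rfl) S.q_order inL_reps5 (S.q_mat ▸ cent_ok) hh.1
    (S.mem_X.1 hh.2)

theorem spread_inL {c : List ℕ} (hc : c ∈ spread reps5) : InL c := by
  obtain ⟨r, hr, h⟩ := List.mem_flatMap.1 hc
  obtain ⟨s, hs, rfl⟩ := List.mem_map.1 h
  refine (inL_reps5 r hr).comp ?_
  have hp : InL pOm := Three.inL_wordM [0] (by decide +kernel) |> fun _ => ?_
  · simp only [pPows, List.mem_cons, List.not_mem_nil, or_false] at hs
    rcases hs with rfl | rfl | rfl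
    · exact InL.one
    · exact hp
    · exact hp.comp hp
  · have : pOm = Three.wordM [0, 0, 1, 2, 1, 1, 0, 2, 2] := by decide +kernel
    rw [this]
    exact Three.inL_wordM _ (by decide +kernel)

/-- Every listed matrix comes from an element normalising `P`. -/
theorem exists_lift {c : List ℕ} (hc : c ∈ spread reps5) :
    ∃ l ∈ S.CX, S.F.mat l = c ∧ l ∈ normalizer (P : Set G) := by
  have h := Three.eqM_sound (List.all_eq_true.1 spread_card.2.2 c hc)
  obtain ⟨l, hl, hm, hcm⟩ := exists_comm S.F S.q_mem S.q_odd (spread_inL hc) (by rw [S.q_mat]; exact h)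
  exact ⟨l, ⟨hl.1, S.mem_X.2 hcm⟩, hm, hl.2⟩

/-- The part of the radical. -/
def R : Subgroup G := Rad z ⊓ S.X

theorem R_le : S.R ≤ S.CX := fun _ hx => ⟨rad_le_Cen hx.1, hx.2⟩

theorem mem_R {x : G} : x ∈ S.R ↔ x ∈ Rad z ∧ S.F.co x ∈ fix5 :=
  ⟨fun h => ⟨h.1, (S.rad_mem_X h.1).1 h.2⟩, fun h => ⟨h.1, (S.rad_mem_X h.1).2 h.2⟩⟩

theorem mem_R_of_mat {x : G} (hx : x ∈ S.CX) (h : S.F.mat x = idM) : x ∈ S.R :=
  ⟨(S.F.mat_eq_id x hx.1).1 h, hx.2⟩

theorem fix5_lt : ∀ v ∈ fix5, v < 4096 := by decide +kernel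

theorem fix5_nodup : fix5.Nodup ∧ fix5.length = 16 := by decide +kernel

theorem card_R : Nat.card S.R = 32 := by
  have hl : ∀ i : Fin 16, S.F.eE (fix5.getD i 0) ∈ S.R ∧
      S.F.co (S.F.eE (fix5.getD i 0)) = fix5.getD i 0 := fun i => by
    have hm : fix5.getD i 0 ∈ fix5 := by
      rw [List.getD_eq_getElem _ _ (by rw [fix5_nodup.2]; exact i.2)]; exact List.getElem_mem _
    obtain ⟨p1, p2, -⟩ := S.F.eE_spec (fix5_lt _ hm)
    exact ⟨S.mem_R.2 ⟨p1, by rw [p2]; exact hm⟩, p2⟩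
  let f : Fin 16 × Bool → S.R := fun i => ⟨S.F.eE (fix5.getD i.1 0) * S.F.zp i.2,
    mul_mem (hl i.1).1 (S.mem_R.2 ⟨S.F.zp_mem _, by rw [S.F.co_zp]; decide⟩)⟩
  have hco : ∀ i, S.F.co (f i : G) = fix5.getD i.1 0 := fun i => by
    show S.F.co (S.F.eE (fix5.getD i.1 0) * S.F.zp i.2) = _
    rw [S.F.co_mul _ (hl i.1).1.1 _ (S.F.zp_mem _), S.F.co_zp, Nat.xor_zero, (hl i.1).2]
  have hb : Function.Bijective f := by
    constructor
    · rintro ⟨i, b⟩ ⟨i', b'⟩ e
      have hi : fix5.getD i 0 = fix5.getD i' 0 := by rw [← hco (i, b), e, hco]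
      have hii : i = i' := by
        rw [List.getD_eq_getElem _ _ (by rw [fix5_nodup.2]; exact i.2),
          List.getD_eq_getElem _ _ (by rw [fix5_nodup.2]; exact i'.2)] at hi
        exact Fin.ext (congrArg Fin.val (List.nodup_iff_injective_getElem.1 fix5_nodup.1
          (a₁ := ⟨i, _⟩) (a₂ := ⟨i', _⟩) hi))
      subst hii
      exact Prod.ext rfl (S.F.zp_inj (mul_left_cancel (congrArg Subtype.val e)))
    · rintro ⟨x, hx⟩
      obtain ⟨hxr, hxc⟩ := S.mem_R.1 hx
      obtain ⟨i, hi, e⟩ := List.getElem_of_mem hxc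
      have h16 : i < 16 := fix5_nodup.2 ▸ hi
      have he : fix5.getD (⟨i, h16⟩ : Fin 16) 0 = S.F.co x := by
        rw [List.getD_eq_getElem _ _ hi, e]
      rcases S.F.eq_or_eq_mul_z hxr (hl ⟨i, h16⟩).1.1 (by rw [(hl ⟨i, h16⟩).2, he]) with e' | e'
      · exact ⟨(⟨i, h16⟩, false), Subtype.ext (by simp [f, Frame.zp, e'])⟩
      · exact ⟨(⟨i, h16⟩, true), Subtype.ext (by simp [f, Frame.zp, e'])⟩
  rw [← Nat.card_congr (Equiv.ofBijective f hb)]
  simp

/-- The matrix map on the centraliser. -/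
noncomputable def matHom : ↥S.CX →* Cert.LGrp where
  toFun h := ⟨S.F.mat h, S.F.mat_inL h h.2.1⟩
  map_one' := Subtype.ext S.F.mat_one
  map_mul' a b := Subtype.ext (S.F.mat_mul a a.2.1 b b.2.1)

theorem matHom_ker : S.matHom.ker = S.R.subgroupOf S.CX := by
  ext h
  rw [MonoidHom.mem_ker, mem_subgroupOf]
  constructor
  · exact fun e => S.mem_R_of_mat h.2 (congrArg Subtype.val e)
  · exact fun e => Subtype.ext ((S.F.mat_eq_id h h.2.1).2 e.1)

theorem card_range : Nat.card S.matHom.range = 30 := by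
  let f : S.matHom.range → {c // c ∈ spread reps5} := fun c => ⟨c.1.1, by
    obtain ⟨h, e⟩ := c.2
    rw [← e]; exact S.mem_spread h.2⟩
  have hb : Function.Bijective f := by
    constructor
    · intro a b e
      exact Subtype.ext (Subtype.ext (congrArg (fun c : {c // c ∈ spread reps5} => c.1) e))
    · rintro ⟨c, hc⟩
      obtain ⟨l, hl, hm, -⟩ := S.exists_lift hc
      exact ⟨⟨_, ⟨l, hl⟩, rfl⟩, Subtype.ext hm⟩
  rw [Nat.card_congr (Equiv.ofBijective f hb)]
  have := Fintype.ofFinite {c // c ∈ spread reps5}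
  rw [Nat.card_eq_fintype_card, Fintype.card_of_subtype (spread reps5).toFinset (by simp),
    List.toFinset_card_of_nodup spread_card.1, spread_card.2.1]

theorem card_CX : Nat.card S.CX = 960 := by
  rw [← card_mul_index S.matHom.ker, index_ker, card_range, matHom_ker,
    Nat.card_congr (subgroupOfEquivOfLe S.R_le).toEquiv, card_R]

/-- The elements of order five of the centraliser are conjugate in it to `q`. -/
theorem exists_conj_q {y : G} (hy : y ∈ Cen z) (h5 : orderOf y = 5) :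
    ∃ c ∈ Cen z, c * S.q * c⁻¹ = y := by
  haveI : Fact (Nat.Prime 5) := ⟨by norm_num⟩
  obtain ⟨B⟩ := CoreP.exists_base S.F
  have hC := B.card_cen
  let a : ↥(Cen z) := ⟨S.q, S.q_mem.1⟩
  let b : ↥(Cen z) := ⟨y, hy⟩
  have hfac : (Nat.card ↥(Cen z)).factorization 5 = 1 := by
    rw [hC, show 887040 * (3 * 2 ^ 13) = 5 ^ 1 * (177408 * (3 * 2 ^ 13)) by norm_num]
    rw [Nat.factorization_mul (by norm_num) (by norm_num),
      Nat.Prime.factorization_pow (by norm_num : Nat.Prime 5), Finsupp.add_apply, Finsupp.single_eq_same,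
      Nat.factorization_eq_zero_of_not_dvd (by norm_num)]
  have hcard : ∀ x : ↥(Cen z), orderOf x = 5 →
      Nat.card (zpowers x) = 5 ^ (Nat.card ↥(Cen z)).factorization 5 := by
    intro x hx
    rw [hfac, Nat.card_zpowers, hx, pow_one]
  let Sa := Sylow.ofCard (zpowers a) (hcard a ((Subgroup.orderOf_mk S.q S.q_mem.1).trans S.q_order))
  let Sb := Sylow.ofCard (zpowers b) (hcard b ((Subgroup.orderOf_mk y hy).trans h5))
  obtain ⟨c, hc⟩ := MulAction.exists_smul_eq ↥(Cen z) Sa Sb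
  have hb : b ∈ (c • Sa : Sylow 5 ↥(Cen z)).toSubgroup := by rw [hc]; exact mem_zpowers b
  rw [Sylow.coe_subgroup_smul] at hb
  obtain ⟨x, hx, e⟩ := hb
  obtain ⟨k, rfl⟩ := mem_zpowers_iff.1 hx
  obtain ⟨l, hl, hlm, hlq⟩ := exists_moving S.F S.q_mem S.q_odd inL_n5 2 (by
    rw [pow_two, S.F.mat_mul _ S.q_mem.1 _ S.q_mem.1, S.q_mat]
    exact Three.eqM_sound square_ok)
  have hkey : ∀ j : ℕ, l ^ j * S.q * (l ^ j)⁻¹ = S.q ^ (2 ^ j) := by
    intro j
    induction j with
    | zero => simp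
    | succ j ih =>
      calc l ^ (j + 1) * S.q * (l ^ (j + 1))⁻¹ = l ^ j * (l * S.q * l⁻¹) * (l ^ j)⁻¹ := by
            rw [pow_succ]; group
        _ = (l ^ j * S.q * (l ^ j)⁻¹) ^ 2 := by rw [hlq, conj_pow]
        _ = S.q ^ (2 ^ (j + 1)) := by rw [ih, ← pow_mul, pow_succ]
  have hk5 : ∃ j : ℕ, S.q ^ k = S.q ^ (2 ^ j) := by
    have hr := Int.emod_emod_of_dvd k (dvd_refl (5 : ℤ))
    have h0 := Int.emod_nonneg k (show (5 : ℤ) ≠ 0 by norm_num)
    have h1 := Int.emod_lt_of_pos k (show (0 : ℤ) < 5 by norm_num)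
    have e' : S.q ^ k = S.q ^ (k % 5) := by
      rw [← zpow_mod_orderOf S.q k, S.q_order]; norm_num
    have hne : k % 5 ≠ 0 := by
      intro h
      have : (a ^ k : ↥(Cen z)) = 1 := Subtype.ext (by
        show S.q ^ k = 1
        rw [e', h, zpow_zero])
      have e2 : b = 1 := by rw [← e, this]; simp
      rw [show y = 1 from congrArg Subtype.val e2, orderOf_one] at h5
      omega
    have hq5 : S.q ^ 5 = 1 := by rw [← S.q_order]; exact pow_orderOf_eq_one _
    obtain h | h | h | h : k % 5 = 1 ∨ k % 5 = 2 ∨ k % 5 = 3 ∨ k % 5 = 4 := by omega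
    · exact ⟨0, by rw [e', h]; norm_num⟩
    · exact ⟨1, by rw [e', h]; norm_cast⟩
    · exact ⟨3, by rw [e', h, pow_eq_pow_mod (2 ^ 3) hq5]; norm_num⟩
    · exact ⟨2, by rw [e', h]; norm_cast⟩
  obtain ⟨j, hj⟩ := hk5
  refine ⟨c * l ^ j, mul_mem c.2 (pow_mem hl.1 j), ?_⟩
  have e' : (c : G) * S.q ^ k * (c : G)⁻¹ = y := congrArg Subtype.val e
  rw [← e', hj, ← hkey]
  group

/-- The conjugates of the involution in the centraliser of `q` are conjugate there. -/
theorem exists_mover {u : G} (hu : u ∈ S.X) (h : IsConj z u) :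
    ∃ g ∈ S.X, g * z * g⁻¹ = u := by
  obtain ⟨g, hg⟩ := isConj_iff.1 h
  have hq' : g⁻¹ * S.q * g ∈ Cen z := mem_centralizer_singleton_iff.2 (by
    calc g⁻¹ * S.q * g * z = g⁻¹ * (S.q * (g * z * g⁻¹)) * g := by group
      _ = g⁻¹ * (g * z * g⁻¹ * S.q) * g := by rw [hg, S.mem_X.1 hu]
      _ = z * (g⁻¹ * S.q * g) := by group)
  obtain ⟨c, hc, e⟩ := S.exists_conj_q hq' (by
    rw [show g⁻¹ * S.q * g = g⁻¹ * S.q * (g⁻¹)⁻¹ by group,
      Invol.orderOf_conj_eq, S.q_order])
  refine ⟨g * c, S.mem_X.2 ?_, ?_⟩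
  · calc g * c * S.q = g * (c * S.q * c⁻¹) * c := by group
      _ = S.q * (g * c) := by rw [e]; group
  · calc g * c * z * (g * c)⁻¹ = g * (c * z) * c⁻¹ * g⁻¹ := by group
      _ = g * z * g⁻¹ := by rw [mem_centralizer_singleton_iff.1 hc]; group
      _ = u := hg

/-- An element of the radical over a vector of the short orbit is conjugate to the involution. -/
theorem zType {x : G} (hx : x ∈ Rad z) (h : S.F.co x ∈ lineZ) : IsConj z x := by
  classical
  obtain ⟨-, hcov⟩ := Frame.exists_cover S.D S.fused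
  obtain ⟨p1, p2, -⟩ := S.F.eE_spec (show (5 : ℕ) < 4096 by norm_num)
  have h5 : IsConj z (S.F.eE 5) := by
    have e1 := hcov 5 (by norm_num) (by norm_num)
    rw [Frame.isZ, inB_ok.2.2.1] at e1
    have e2 : Frame.vE S.D 5 = S.F.eE 5 := by
      rw [show (5 : ℕ) = NV.pack 5 false 0 by decide, Frame.vE_eE S.D (by norm_num) false,
        show S.F.zp false = 1 from rfl, mul_one]
      rfl
    rw [← e2]
    exact of_decide_eq_true e1
  have hall : ∀ y ∈ Rad z, S.F.co y = 5 → IsConj z y := by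
    intro y hy hc
    rcases S.F.eq_or_eq_mul_z hy p1 (hc.trans p2.symm) with e | e
    · rwa [e]
    · obtain ⟨d, hd, hdc⟩ := S.F.co_surj 128 (by norm_num)
      refine h5.trans (isConj_iff.2 ⟨d, ?_⟩)
      have h1 := S.F.comm_rad hd p1
      rw [hdc, p2, show bF 128 5 = true by decide +kernel, if_pos rfl] at h1
      rw [e, mul_inv_eq_iff_eq_mul, h1, mul_assoc, mul_assoc, S.F.z_comm_rad hd]
  have hw : ∃ w : List ℕ, InL w ∧ mv w 5 = S.F.co x := by
    simp only [lineZ, List.mem_cons, List.not_mem_nil, or_false] at h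
    obtain ⟨k1, k2, k3⟩ := lineZ_orbit
    rcases h with e | e | e <;> rw [e]
    · exact ⟨_, Three.inL_wordM _ (by decide +kernel), Nat.eq_of_beq_eq_true k1⟩
    · exact ⟨_, Three.inL_wordM _ (by decide +kernel), Nat.eq_of_beq_eq_true k2⟩
    · exact ⟨_, Three.inL_wordM _ (by decide +kernel), Nat.eq_of_beq_eq_true k3⟩
  obtain ⟨w, hw, e⟩ := hw
  obtain ⟨l, hl, rfl⟩ := S.F.mat_surj w hw
  have hy := S.F.rad_conj (inv_mem hl.1) hx
  rw [inv_inv] at hy
  refine (hall _ hy ?_).trans (isConj_iff.2 ⟨l, by group⟩)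
  refine hw.mv_inj (S.F.co_lt _ hy) (by norm_num) ?_
  rw [e, ← S.F.conj_co hl.1 hy]
  congr 1
  group

/-- An element over a vector of the long orbit moves to one over the first vector. -/
theorem bType {x : G} (hx : x ∈ Rad z) (h : S.F.co x ∈ lineB) :
    ¬ IsConj z x ∧ ∃ l ∈ S.CX, S.F.co (l⁻¹ * x * l) = 1 ∧ l⁻¹ * x * l ∈ S.R := by
  obtain ⟨-, hb⟩ := Bool.and_eq_true_iff.1 (List.all_eq_true.1 lineB_ok.1 _ h)
  obtain ⟨c, hc, e⟩ := List.any_eq_true.1 hb
  obtain ⟨l, hl, rfl, -⟩ := S.exists_lift hc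
  have hy : l⁻¹ * x * l ∈ Rad z := by simpa using S.F.rad_conj (inv_mem hl.1) hx
  have hco : S.F.co (l⁻¹ * x * l) = 1 := by
    refine (S.F.mat_inL l hl.1).mv_inj (S.F.co_lt _ hy) (by norm_num) ?_
    rw [Nat.eq_of_beq_eq_true e, ← S.F.conj_co hl.1 hy]
    congr 1
    group
  refine ⟨fun hz => S.fused.not_oval _ hy hco (hz.trans (isConj_iff.2 ⟨l⁻¹, by simp⟩)),
    l, hl, hco, S.mem_R.2 ⟨hy, by rw [hco]; decide⟩⟩

/-- An involution of the radical centralising `q` is central or of one of the two types. -/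
theorem R_invol {x : G} (hx : x ∈ S.R) (h2 : x * x = 1) :
    S.F.co x = 0 ∨ S.F.co x ∈ lineZ ∨ S.F.co x ∈ lineB := by
  obtain ⟨hr, hc⟩ := S.mem_R.1 hx
  have h := List.all_eq_true.1 singular_ok _ hc
  have hq : qF (S.F.co x) = false := by
    by_contra hne
    have := S.F.sq x hr
    rw [h2, if_pos (Bool.eq_true_of_not_eq_false hne)] at this
    exact S.F.z_ne this.symm
  simp only [hq, Bool.or_false, Bool.or_eq_true, List.contains_iff_mem] at h
  rcases h with (e | e) | e
  · exact Or.inl (Nat.eq_of_beq_eq_true e)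
  · exact Or.inr (Or.inl e)
  · exact Or.inr (Or.inr e)

end Setup

end CfsgLib.J4Type.Five
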