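import Cfsg.Agent.Lib.J4Type.Five.Main
import Cfsg.Agent.Lib.J4Type.CoreP.Norm

/-!
The structure of the centraliser and normaliser of an element of order five.
-/

set_option autoImplicit false
set_option linter.unusedSectionVars false
set_option maxRecDepth 100000

namespace CfsgLib.J4Type.Five

open Cfsg Subgroup Local57

/-- Invertible matrices over the field of two elements have determinant one. -/
noncomputable def glToSL : GL (Fin 3) (ZMod 2) ≃* Matrix.SpecialLinearGroup (Fin 3) (ZMod 2) where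
  toFun g := ⟨g, by
    have hne : (g : Matrix (Fin 3) (Fin 3) (ZMod 2)).det ≠ 0 :=
      ((Matrix.isUnit_iff_isUnit_det _).1 g.isUnit).ne_zero
    revert hne
    generalize (g : Matrix (Fin 3) (Fin 3) (ZMod 2)).det = d
    revert d
    decide⟩
  invFun v := Matrix.SpecialLinearGroup.toGL v
  left_inv _ := Units.ext rfl
  right_inv _ := Subtype.ext rfl
  map_mul' _ _ := rfl

variable {G : Type*} [Group G] [Finite G] {z : G} {P : Subgroup G}

namespace Setup

variable (S : Setup z P)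

theorem commute_q_K {k : G} (hk : k ∈ S.K) : Commute S.q k :=
  (S.mem_X.1 (S.K_le_CX hk).2).symm

theorem K_elem : IsElementaryAbelian 2 S.K :=
  ⟨⟨⟨fun a b => Subtype.ext (S.K_comm a.2 b.2)⟩⟩, fun x hx => by rw [pow_two]; exact S.K_sq hx⟩

theorem qpow_of_mul_mem {i : ℕ} {k : G} (hk : k ∈ S.K) (hi : i < 5) (h : S.q ^ i * k ∈ S.K) :
    i = 0 := by
  have h' : S.q ^ i ∈ S.K := by
    have := S.K.mul_mem h (S.K.inv_mem hk)
    rwa [mul_inv_cancel_right] at this
  have h2 : S.q ^ (2 * i) = 1 := by rw [two_mul, pow_add, S.K_sq h']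
  have hd := orderOf_dvd_of_pow_eq_one h2
  rw [S.q_order] at hd
  omega

/-- The action on the distinguished subgroup. -/
theorem exists_pi : ∃ π : ↥S.X →* Matrix.SpecialLinearGroup (Fin 3) (ZMod 2), Function.Surjective π ∧
    ∀ g : ↥S.X, π g = 1 ↔ ∀ k ∈ S.K, (g : G) * k = k * g := by
  obtain ⟨e⟩ := Recog.QSThree.aut_eight (P := ↥S.K) (fun a b => Subtype.ext (S.K_comm a.2 b.2))
    (fun a => Subtype.ext (by
      show (a : G) ^ 2 = 1
      rw [pow_two, S.K_sq a.2])) S.card_K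
  have hle : S.X ≤ normalizer (S.K : Set G) := by
    rw [S.X_eq_N]; exact inf_le_right
  let ρ : ↥S.X →* MulAut ↥S.K := S.K.normalizerMonoidHom.comp (Subgroup.inclusion hle)
  let π := (e.trans glToSL).toMonoidHom.comp ρ
  have hρ : ∀ g : ↥S.X, ρ g = 1 ↔ ∀ k ∈ S.K, (g : G) * k = k * g := by
    intro g
    show Subgroup.inclusion hle g ∈ S.K.normalizerMonoidHom.ker ↔ _
    rw [normalizerMonoidHom_ker, mem_subgroupOf, mem_centralizer_iff]
    exact ⟨fun h k hk => (h k hk).symm, fun h k hk => (h k hk).symm⟩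
  have hπ : ∀ g : ↥S.X, π g = 1 ↔ ∀ k ∈ S.K, (g : G) * k = k * g := fun g => by
    rw [← hρ]
    exact map_eq_one_iff _ (e.trans glToSL).injective
  refine ⟨π, ?_, hπ⟩
  let f : Fin 5 × ↥S.K → ↥ρ.ker := fun i => ⟨⟨S.q ^ (i.1 : ℕ) * i.2,
    S.X.mul_mem (pow_mem S.q_mem_X _) (S.K_le_CX i.2.2).2⟩, (hρ _).2 fun k hk => by
      show S.q ^ (i.1 : ℕ) * i.2 * k = k * (S.q ^ (i.1 : ℕ) * i.2)
      rw [mul_assoc, S.K_comm i.2.2 hk, ← mul_assoc, ((S.commute_q_K hk).pow_left _).eq, mul_assoc]⟩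
  have hf : Function.Bijective f := by
    constructor
    · rintro ⟨i, k⟩ ⟨j, l⟩ e
      have e' : S.q ^ (i : ℕ) * k = S.q ^ (j : ℕ) * l :=
        congrArg (fun x : ↥ρ.ker => ((x : ↥S.X) : G)) e
      have hij : i = j := by
        by_contra hne
        rcases Nat.lt_or_gt_of_ne (fun h => hne (Fin.ext h)) with h | h
        · have : S.q ^ ((j : ℕ) - i) * l = k := by
            refine mul_left_cancel (a := S.q ^ (i : ℕ)) ?_
            rw [e', ← mul_assoc, ← pow_add, Nat.add_sub_cancel' h.le]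
          have := S.qpow_of_mul_mem l.2 (by omega) (this ▸ k.2)
          omega
        · have : S.q ^ ((i : ℕ) - j) * k = l := by
            refine mul_left_cancel (a := S.q ^ (j : ℕ)) ?_
            rw [← e', ← mul_assoc, ← pow_add, Nat.add_sub_cancel' h.le]
          have := S.qpow_of_mul_mem k.2 (by omega) (this ▸ l.2)
          omega
      subst hij
      exact Prod.ext rfl (Subtype.ext (mul_left_cancel e'))
    · rintro ⟨⟨h, hh⟩, hker⟩
      obtain ⟨i, hi, k, hk, e⟩ := S.cent_K hh ((hρ _).1 hker)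
      exact ⟨(⟨i, hi⟩, ⟨k, hk⟩), Subtype.ext (Subtype.ext e.symm)⟩
  have hker : Nat.card ρ.ker = 40 := by
    rw [← Nat.card_congr (Equiv.ofBijective f hf), Nat.card_prod, Nat.card_fin, S.card_K]
  have hc := card_mul_index ρ.ker
  rw [index_ker, hker, S.card_X] at hc
  have hsur : Function.Surjective ρ := by
    refine MonoidHom.range_eq_top.1 (eq_top_of_card_eq _ ?_)
    rw [Nat.card_congr e.toEquiv, Recog.QSThree.gl_psl.1]
    omega
  exact (e.trans glToSL).surjective.comp hsur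

theorem not_dvd_25 (S : Setup z P) : ¬ 25 ∣ Nat.card G := by
  intro h
  haveI : Fact (Nat.Prime 5) := ⟨by norm_num⟩
  obtain ⟨H, hH, hle⟩ := Sylow.exists_subgroup_card_pow_succ (p := 5) (n := 1)
    (show 5 ^ (1 + 1) ∣ Nat.card G from h) (show Nat.card (zpowers S.q) = 5 ^ 1 by
      rw [Nat.card_zpowers, S.q_order, pow_one])
  have hX : H ≤ S.X := fun x hx => S.mem_X.2 (congrArg Subtype.val
    (IsPGroup.commutative_of_card_eq_prime_sq (G := H) (p := 5) hH ⟨x, hx⟩
      ⟨S.q, hle (mem_zpowers _)⟩))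
  have hd := card_dvd_of_le hX
  rw [hH, S.card_X] at hd
  norm_num at hd

/-- The direct factor. -/
theorem exists_factor : ∃ J : Subgroup G, IsInternalDirectProduct (zpowers S.q) J S.X ∧
    ∃ (E : Subgroup ↥J) (_ : E.Normal), IsElementaryAbelian 2 E ∧ Nat.card E = 8 ∧
      Nonempty (↥J ⧸ E ≃* Matrix.SpecialLinearGroup (Fin 3) (ZMod 2)) ∧
      ∀ K : Subgroup ↥J, ¬ E.IsComplement' K := by
  classical
  set a : ↥S.X := ⟨S.q, S.q_mem_X⟩
  have hao : orderOf a = 5 := (Subgroup.orderOf_mk _ _).trans S.q_order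
  haveI : (zpowers a).Normal := ⟨fun n hn g => by
    obtain ⟨k, rfl⟩ := mem_zpowers_iff.1 hn
    have hc : Commute g a := Subtype.ext (S.mem_X.1 g.2)
    rw [(hc.zpow_right k).eq, mul_inv_cancel_right]
    exact mem_zpowers_iff.2 ⟨k, rfl⟩⟩
  have hc1 := card_mul_index (zpowers a)
  rw [Nat.card_zpowers, hao, S.card_X] at hc1
  obtain ⟨J0, hJ0⟩ := exists_right_complement'_of_coprime (N := zpowers a) (by
    rw [Nat.card_zpowers, hao, show (zpowers a).index = 1344 by omega]; norm_num)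
  set J : Subgroup G := J0.map S.X.subtype with hJdef
  have hJc : Nat.card J = 1344 := by
    have := hJ0.card_mul_card
    rw [Nat.card_zpowers, hao, S.card_X] at this
    rw [hJdef, Subgroup.card_map_of_injective S.X.subtype_injective]
    omega
  have hJX : J ≤ S.X := map_subtype_le _
  have hQX : zpowers S.q ≤ S.X := zpowers_le.2 S.q_mem_X
  have hcomm : ∀ x ∈ zpowers S.q, ∀ y ∈ J, x * y = y * x := by
    intro x hx y hy
    obtain ⟨k, rfl⟩ := mem_zpowers_iff.1 hx
    exact ((show Commute y S.q from S.mem_X.1 (hJX hy)).zpow_right k).eq.symm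
  have hdis : zpowers S.q ⊓ J = ⊥ := (Subgroup.inf_eq_bot_of_coprime (by
    rw [Nat.card_zpowers, S.q_order, hJc]; norm_num))
  have hsup : zpowers S.q ⊔ J = S.X := by
    refine eq_of_le_of_card_ge (sup_le hQX hJX) ?_
    refine Nat.le_of_dvd Nat.card_pos ?_
    have h5 : 5 ∣ Nat.card (zpowers S.q ⊔ J : Subgroup G) := by
      rw [← S.q_order, ← Nat.card_zpowers]; exact card_dvd_of_le le_sup_left
    have h1344 : 1344 ∣ Nat.card (zpowers S.q ⊔ J : Subgroup G) := by
      rw [← hJc]; exact card_dvd_of_le le_sup_right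
    rw [S.card_X, show 6720 = 5 * 1344 by norm_num]
    exact Nat.Coprime.mul_dvd_of_dvd_of_dvd (by norm_num) h5 h1344
  have hXnorm : S.X ≤ normalizer (J : Set G) := by
    rw [← hsup]
    refine sup_le (fun x hx => mem_normalizer_iff.2 fun y => ?_) le_normalizer
    constructor
    · intro hy
      rw [hcomm x hx y hy, mul_inv_cancel_right]
      exact hy
    · intro hy
      have := hcomm _ (inv_mem hx) _ hy
      rw [show x⁻¹ * (x * y * x⁻¹) = y * x⁻¹ by group] at this
      have e : y = x * y * x⁻¹ := mul_right_cancel this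
      rw [e]; exact hy
  have hKX : S.K ≤ S.X := fun k hk => (S.K_le_CX hk).2
  have hKJ : S.K ≤ J := by
    have h1 := CoreP.card_sup_inf (K := J) (A := S.K) (hKX.trans hXnorm)
    have h2 : Nat.card (J ⊔ S.K : Subgroup G) ∣ 6720 :=
      S.card_X ▸ card_dvd_of_le (sup_le hJX hKX)
    have h3 : Nat.card (J ⊓ S.K : Subgroup G) ∣ 8 := S.card_K ▸ card_dvd_of_le inf_le_right
    rw [hJc, S.card_K] at h1
    have h4 : Nat.card (J ⊔ S.K : Subgroup G) * Nat.card (J ⊓ S.K : Subgroup G) ∣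
        6720 * Nat.card (J ⊓ S.K : Subgroup G) := Nat.mul_dvd_mul_right h2 _
    rw [h1] at h4
    have h8 : Nat.card (J ⊓ S.K : Subgroup G) = 8 := by
      obtain ⟨i, hi, e⟩ := (Nat.dvd_prime_pow Nat.prime_two).1
        (show Nat.card (J ⊓ S.K : Subgroup G) ∣ 2 ^ 3 from h3)
      rw [e] at h4 ⊢
      interval_cases i <;> first | rfl | (norm_num at h4)
    have e : J ⊓ S.K = S.K := eq_of_le_of_card_ge inf_le_right (by rw [h8, S.card_K])
    exact inf_eq_right.1 e
  refine ⟨J, ⟨hQX, hJX, hcomm, hdis, hsup⟩, S.K.subgroupOf J, ?_⟩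
  haveI hEn : (S.K.subgroupOf J).Normal := ⟨fun n hn g => by
    rw [mem_subgroupOf] at hn ⊢
    exact S.K_normal (hJX g.2) hn⟩
  have hEc : Nat.card (S.K.subgroupOf J) = 8 := by
    rw [Nat.card_congr (subgroupOfEquivOfLe hKJ).toEquiv, S.card_K]
  have hEel : IsElementaryAbelian 2 (S.K.subgroupOf J) :=
    ⟨⟨⟨fun x y => Subtype.ext (Subtype.ext (S.K_comm x.2 y.2))⟩⟩, fun x hx => Subtype.ext (by
      show (x : G) ^ 2 = 1
      rw [pow_two, S.K_sq (mem_subgroupOf.1 hx)])⟩
  obtain ⟨π, hπ, hπ1⟩ := S.exists_pi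
  let φ := π.comp (Subgroup.inclusion hJX)
  have hker : φ.ker = S.K.subgroupOf J := by
    ext x
    rw [MonoidHom.mem_ker, mem_subgroupOf]
    constructor
    · intro h
      obtain ⟨i, hi, k, hk, e⟩ := S.cent_K (hJX x.2) ((hπ1 _).1 h)
      have hq : S.q ^ i ∈ zpowers S.q ⊓ J := ⟨pow_mem (mem_zpowers _) i, by
        have := J.mul_mem x.2 (J.inv_mem (hKJ hk))
        rwa [show (x : G) * k⁻¹ = S.q ^ i by rw [e, mul_inv_cancel_right]] at this⟩
      rw [hdis, mem_bot] at hq
      rw [e, hq, one_mul]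
      exact hk
    · intro h
      exact (hπ1 _).2 fun k hk => S.K_comm h hk
  have hsl : Nat.card (Matrix.SpecialLinearGroup (Fin 3) (ZMod 2)) = 168 := by
    rw [← Nat.card_congr glToSL.toEquiv, Recog.QSThree.gl_psl.1]
  have hsurj : Function.Surjective φ := by
    refine MonoidHom.range_eq_top.1 (eq_top_of_card_eq _ ?_)
    have h := card_mul_index φ.ker
    rw [index_ker, hker, hEc, hJc] at h
    rw [hsl]
    omega
  refine ⟨hEn, hEel, hEc, ⟨(QuotientGroup.quotientMulEquivOfEq hker.symm).trans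
    (QuotientGroup.quotientKerEquivOfSurjective φ hsurj)⟩, fun K hK => ?_⟩
  -- a complement contains an involution with too large a centraliser
  haveI : Fact (Nat.Prime 2) := ⟨Nat.prime_two⟩
  have hKc : Nat.card K = 168 := by
    have := hK.card_mul_card
    rw [hEc, hJc] at this
    omega
  obtain ⟨T⟩ : Nonempty (Sylow 2 K) := inferInstance
  have hTc : Nat.card (T : Subgroup K) = 8 := by
    rw [T.card_eq_multiplicity, hKc, show 168 = 2 ^ 3 * 21 by norm_num,
      Nat.factorization_mul (by norm_num) (by norm_num), Nat.Prime.factorization_pow Nat.prime_two,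
      Finsupp.add_apply, Finsupp.single_eq_same, Nat.factorization_eq_zero_of_not_dvd (by norm_num)]
    norm_num
  have hTp : IsPGroup 2 (T : Subgroup K) := T.2
  haveI : Nontrivial ↥(T : Subgroup K) := Finite.one_lt_card_iff_nontrivial.1 (by rw [hTc]; norm_num)
  have hZ := hTp.center_nontrivial
  obtain ⟨w, hw⟩ := exists_prime_orderOf_dvd_card' (G := Subgroup.center ↥(T : Subgroup K)) 2 (by
    obtain ⟨n, hn⟩ := IsPGroup.iff_card.1 (hTp.to_subgroup (Subgroup.center ↥(T : Subgroup K)))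
    have : 1 < Nat.card (Subgroup.center ↥(T : Subgroup K)) := Finite.one_lt_card
    rcases n with _ | n
    · rw [hn] at this; norm_num at this
    · exact hn ▸ dvd_pow_self 2 (Nat.succ_ne_zero n))
  let wK : K := ((w : ↥(T : Subgroup K)) : K)
  set x : G := ((wK : ↥J) : G) with hx
  have hw2 : x * x = 1 := by
    have := pow_orderOf_eq_one w
    rw [hw, pow_two] at this
    exact congrArg (fun v : Subgroup.center ↥(T : Subgroup K) =>
      (((v : ↥(T : Subgroup K)) : K) : G)) this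
  have hw1 : x ≠ 1 := fun e => by
    have : w = 1 := Subtype.ext (Subtype.ext (Subtype.ext (Subtype.ext e)))
    rw [this, orderOf_one] at hw
    omega
  have hdisJ : ∀ v : ↥J, v ∈ K → (v : G) ∈ S.K → v = 1 := fun v hv hvK => by
    have := hK.disjoint.le_bot (⟨mem_subgroupOf.2 hvK, hv⟩ : v ∈ S.K.subgroupOf J ⊓ K)
    exact mem_bot.1 this
  have hxK : x ∉ S.K := fun h => hw1 (by
    have := hdisJ (wK : ↥J) wK.2 h
    rw [hx, this]; rfl)
  have hxX : x ∈ S.X := hJX (wK : ↥J).2
  have hxN : x ∈ S.N := S.X_eq_N ▸ hxX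
  have hinv : x⁻¹ = x := inv_eq_of_mul_eq_one_right hw2
  have hn : ∀ v ∈ S.K, x * v * x ∈ S.K := fun v hv => by
    have := S.N_conj hxN hv
    rwa [hinv] at this
  have hmove : ∃ v ∈ S.K, x * v * x ≠ v := by
    by_contra hcon
    push Not at hcon
    have : (wK : ↥J) ∈ φ.ker := MonoidHom.mem_ker.2 ((hπ1 _).2 fun k hk => by
      show x * k = k * x
      calc x * k = x * k * (x * x) := by rw [hw2, mul_one]
        _ = x * k * x * x := by group
        _ = k * x := by rw [hcon k hk])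
    rw [hker, mem_subgroupOf] at this
    exact hxK this
  obtain ⟨h4, -⟩ := Recog.QSThree.four_fixed S.card_K (fun a ha b hb => S.K_comm ha hb)
    (fun a ha => S.K_sq ha) hw2 hn hmove
  have hbound := (S.cent_outside hxN hw2 hxK).2.2
  let ι : Fin 5 × ↥(S.K ⊓ centralizer ({x} : Set G)) × ↥(T : Subgroup K) →
      ↥(S.X ⊓ centralizer ({x} : Set G)) := fun i =>
    ⟨S.q ^ (i.1 : ℕ) * i.2.1 * ((((i.2.2 : ↥(T : Subgroup K)) : K) : ↥J) : G), by
      refine mul_mem (mul_mem (pow_mem (Subgroup.mem_inf.2 ⟨S.q_mem_X, mem_centralizer_singleton_iff.2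
        (show S.q * x = x * S.q from (S.mem_X.1 hxX).symm)⟩) _)
        (Subgroup.mem_inf.2 ⟨hKX i.2.1.2.1, i.2.1.2.2⟩))
        (Subgroup.mem_inf.2 ⟨hJX (((i.2.2 : ↥(T : Subgroup K)) : K) : ↥J).2,
          mem_centralizer_singleton_iff.2 ?_⟩)
      exact congrArg (fun v : ↥(T : Subgroup K) => (((v : K) : ↥J) : G))
        (Subgroup.mem_center_iff.1 w.2 i.2.2)⟩
  have hι : Function.Injective ι := by
    rintro ⟨i, k, t⟩ ⟨j, l, s⟩ e
    have e' : S.q ^ (i : ℕ) * k * (((t : K) : ↥J) : G) = S.q ^ (j : ℕ) * l * (((s : K) : ↥J) : G) :=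
      congrArg Subtype.val e
    have hq : (S.q ^ (j : ℕ))⁻¹ * S.q ^ (i : ℕ) ∈ zpowers S.q ⊓ J := by
      refine Subgroup.mem_inf.2
        ⟨mul_mem (inv_mem (pow_mem (mem_zpowers _) _)) (pow_mem (mem_zpowers _) _), ?_⟩
      have : (S.q ^ (j : ℕ))⁻¹ * S.q ^ (i : ℕ) =
          (l : G) * ((s : K) : ↥J) * ((((t : K) : ↥J) : G)⁻¹ * (k : G)⁻¹) := by
        rw [show (l : G) * ((s : K) : ↥J) = (S.q ^ (j : ℕ))⁻¹ * (S.q ^ (j : ℕ) * l * (((s : K) : ↥J) : G))
          by group, ← e']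
        group
      rw [this]
      exact J.mul_mem (J.mul_mem (hKJ l.2.1) (SetLike.coe_mem _))
        (J.mul_mem (J.inv_mem (SetLike.coe_mem _)) (J.inv_mem (hKJ k.2.1)))
    rw [hdis, mem_bot, inv_mul_eq_one] at hq
    have hij : j = i := Fin.ext (pow_injOn_Iio_orderOf (by rw [S.q_order]; exact j.2)
      (by rw [S.q_order]; exact i.2) hq)
    subst hij
    rw [mul_assoc, mul_assoc] at e'
    have e2 := mul_left_cancel e'
    have hmem : ((((s : K) * ((t : K))⁻¹ : K) : ↥J) : G) = (l : G)⁻¹ * k := by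
      show (((s : K) : ↥J) : G) * ((((t : K) : ↥J) : G))⁻¹ = _
      rw [mul_inv_eq_iff_eq_mul, mul_assoc, eq_inv_mul_iff_mul_eq]
      exact e2.symm
    have h1 := hdisJ _ (((s : K) * ((t : K))⁻¹ : K)).2
      (hmem ▸ S.K.mul_mem (S.K.inv_mem l.2.1) k.2.1)
    have hts : s = t := Subtype.ext (mul_inv_eq_one.1 (Subtype.ext h1))
    subst hts
    exact Prod.ext rfl (Prod.ext (Subtype.ext (mul_right_cancel e2)) rfl)
  have := Nat.card_le_card_of_injective ι hι
  rw [Nat.card_prod, Nat.card_prod, Nat.card_fin, h4, hTc] at this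
  omega

end Setup

end CfsgLib.J4Type.Five
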